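import Groth.Agent.EGA4Alg4.Depth

/-! Depth at a prime, for any model of the localization. -/

set_option autoImplicit false

universe u

open IsLocalRing
open scoped Pointwise

namespace Groth.Agent.ZClos93.LocDepth

variable {A : Type u} [CommRing A] [IsNoetherianRing A] (p : Ideal A) [p.IsPrime]
  (S : Type u) [CommRing S] [Algebra A S] [IsLocalization.AtPrime S p] [IsLocalRing S]
  {M : Type u} [AddCommGroup M] [Module A M] [Module.Finite A M]
  {N : Type u} [AddCommGroup N] [Module A N] [Module S N] [IsScalarTower A S N]
  (f : M →ₗ[A] N) [IsLocalizedModule p.primeCompl f]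

include f

theorem depth_eq_zero_iff_mem : LocCoh.depth S N = 0 ↔ p ∈ associatedPrimes A M := by
  have : IsNoetherianRing S := IsLocalization.isNoetherianRing p.primeCompl S inferInstance
  have : Module.Finite S N := Module.Finite.of_isLocalizedModule p.primeCompl f
  rw [EGA4Alg4.depth_eq_zero_iff,
    ← Module.associatedPrimes.preimage_comap_associatedPrimes_eq_associatedPrimes_of_isLocalizedModule
      p.primeCompl S f, Set.mem_preimage, ← Ideal.under_def,
    IsLocalization.AtPrime.under_maximalIdeal S p]

theorem one_le_depth_iff : (1 : ℕ∞) ≤ LocCoh.depth S N ↔ p ∉ associatedPrimes A M := by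
  rw [← depth_eq_zero_iff_mem p S f, Order.one_le_iff_pos, pos_iff_ne_zero]

/-- Depth at least two at a prime, through one element. -/
theorem two_le_depth_iff {a : A} (ha : a ∈ p) (hreg : IsSMulRegular M a) :
    (2 : ℕ∞) ≤ LocCoh.depth S N ↔
      p ∉ associatedPrimes A (M ⧸ (Ideal.span {a} • (⊤ : Submodule A M))) := by
  have : IsNoetherianRing S := IsLocalization.isNoetherianRing p.primeCompl S inferInstance
  have : Module.Finite S N := Module.Finite.of_isLocalizedModule p.primeCompl f
  have hreg' : IsSMulRegular N (algebraMap A S a) :=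
    IsSMulRegular.of_isLocalizedModule S p.primeCompl f hreg
  have hmem : algebraMap A S a ∈ maximalIdeal S := by
    rwa [← Ideal.mem_comap, ← Ideal.under_def, IsLocalization.AtPrime.under_maximalIdeal S p]
  rw [← EGA4Alg4.depth_quotSMulTop_add_one hmem hreg', show (2 : ℕ∞) = 1 + 1 from rfl,
    ENat.add_le_add_iff_right ENat.one_ne_top, Order.one_le_iff_pos, pos_iff_ne_zero, ne_eq, not_iff_not]
  let K : Submodule A M := Ideal.span {a} • ⊤
  have hK : K.localized' S p.primeCompl f = algebraMap A S a • (⊤ : Submodule S N) := by
    rw [Submodule.localized'_smul, Submodule.localized'_top, Ideal.localized'_eq_map, Ideal.map_span,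
      Set.image_singleton, Submodule.ideal_span_singleton_smul]
  let e : (N ⧸ K.localized' S p.primeCompl f) ≃ₗ[S] QuotSMulTop (algebraMap A S a) N :=
    Submodule.quotEquivOfEq _ _ hK
  rw [EGA4Alg4.depth_eq_zero_iff, ← LinearEquiv.AssociatedPrimes.eq e,
    ← Module.associatedPrimes.preimage_comap_associatedPrimes_eq_associatedPrimes_of_isLocalizedModule
      p.primeCompl S (K.toLocalizedQuotient' S p.primeCompl f),
    Set.mem_preimage, ← Ideal.under_def, IsLocalization.AtPrime.under_maximalIdeal S p]

end Groth.Agent.ZClos93.LocDepth
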