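import Groth.Agent.ZClos93.Closed
import Groth.Agent.ZClos93.LocDepth
import Groth.Agent.FBase64.AssSheaf
import Groth.Agent.QCqs72.Basic
import Groth.Agent.QC70.FiniteType
import Groth.Prelude.Def_CAlg

/-! Purity and closedness at a point through depth. -/

set_option autoImplicit false
set_option linter.style.haveILetI false
set_option backward.isDefEq.respectTransparency false

noncomputable section

universe u

open CategoryTheory Limits AlgebraicGeometry TopologicalSpace Opposite Topology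
open Groth.Agent.QC70 Groth.Agent.Div89

namespace Groth.Agent.ZClos93

variable {X : Scheme.{u}} [IsLocallyNoetherian X] {Z : Set X} {F : X.Modules}

theorem finite_sections_of_coh (hF : Coh.IsCoh F) (U : X.affineOpens) :
    Module.Finite Γ(X, U.1) Γ(F, U.1) :=
  haveI : F.IsQuasicoherent := hF.1
  haveI : F.IsFiniteType := hF.2
  finite_sections_of_isFiniteType F U.2

theorem one_le_depth_iff_not_ass (hF : Coh.IsCoh F) (x : X) :
    (1 : ℕ∞) ≤ LocCoh.depth (X.presheaf.stalk x) (F.presheaf.stalk x) ↔ x ∉ AssSch.Ass F := by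
  obtain ⟨U, hxU⟩ := exists_affine_mem x
  letI := Div89.stalkModule F U.1 x hxU
  letI := stalkAlg U.1 x hxU
  haveI := isLocalization_stalk U x hxU
  haveI := isLocalizedModule_germLin F hF.1 U x hxU
  haveI := isScalarTower_stalk F U.1 x hxU
  haveI := finite_sections_of_coh hF U
  haveI : IsNoetherianRing Γ(X, U.1) := IsLocallyNoetherian.component_noetherian U
  rw [FBase64.AssSheaf.mem_ass_iff_associated F hF.1 U x hxU]
  exact LocDepth.one_le_depth_iff (primeAt U x hxU) _ (germLin F U.1 x hxU)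

theorem two_le_depth_iff_not_mem (hF : Coh.IsCoh F) (U : X.affineOpens) (x : X) (hx : x ∈ U.1)
    {a : Γ(X, U.1)} (ha : a ∈ primeAt U x hx) (hreg : IsSMulRegular Γ(F, U.1) a) :
    (2 : ℕ∞) ≤ LocCoh.depth (X.presheaf.stalk x) (F.presheaf.stalk x) ↔
      primeAt U x hx ∉ associatedPrimes Γ(X, U.1)
        (Γ(F, U.1) ⧸ (Ideal.span {a} • (⊤ : Submodule Γ(X, U.1) Γ(F, U.1)))) := by
  letI := Div89.stalkModule F U.1 x hx
  letI := stalkAlg U.1 x hx
  haveI := isLocalization_stalk U x hx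
  haveI := isLocalizedModule_germLin F hF.1 U x hx
  haveI := isScalarTower_stalk F U.1 x hx
  haveI := finite_sections_of_coh hF U
  haveI : IsNoetherianRing Γ(X, U.1) := IsLocallyNoetherian.component_noetherian U
  exact LocDepth.two_le_depth_iff (primeAt U x hx) _ (germLin F U.1 x hx) ha hreg

/-- The closure of a point of `Z`, as a member of the index. -/
def pointCl (hZ : StableUnderSpecialization Z) {x : X} (hx : x ∈ Z) : ZClos.Cl Z :=
  ⟨⟨closure {x}, isClosed_closure⟩, fun _ hy => hZ (specializes_iff_mem_closure.mpr hy) hx⟩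

theorem mem_pointCl_U_iff (hZ : StableUnderSpecialization Z) {x : X} (hx : x ∈ Z) {y : X} :
    y ∈ (pointCl hZ hx).U ↔ ¬ x ⤳ y :=
  not_congr specializes_iff_mem_closure.symm

theorem eq_zero_of_germs {A : X.Opens} (s : Γ(F, A)) (h : ∀ (y : X) (hy : y ∈ A), germM F A y hy s = 0) :
    s = 0 :=
  section_ext F s 0 fun p hp => by
    obtain ⟨W, hW, hpW, h0⟩ := germM_eq_zero (h p hp)
    exact ⟨W, hW, hpW, h0.trans (res_zero hW).symm⟩

theorem res_inj_of_no_ass (hF : Coh.IsCoh F) {U : X.Opens} (hU : ∀ y ∈ U, y ∈ AssSch.Ass F → y ∉ Z)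
    {V : X.Opens} (hV : V ≤ U) (T : ZClos.Cl Z) :
    Function.Injective (QC70.res F (inf_le_left : V ⊓ T.U ≤ V)) := by
  intro a b e
  rw [← sub_eq_zero]
  refine FBase64.AssSheaf.section_eq_zero F hF.1 _ fun y hy hass => ?_
  have hyT : y ∈ V ⊓ T.U := ⟨hy, fun h => hU y (hV hy) hass (T.2 h)⟩
  show germM F V y hy (a - b) = 0
  rw [← germM_res inf_le_left hyT, res_sub, e, sub_self]
  exact germM_zero _

theorem rhoStalk_injective_of_no_ass (hF : Coh.IsCoh F) {U : X.Opens} {x : X} (hx : x ∈ U)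
    (hU : ∀ y ∈ U, y ∈ AssSch.Ass F → y ∉ Z) :
    Function.Injective (stalkMapM (ZClos.rhoApp Z F) x) := by
  refine (injective_iff_map_eq_zero ((TopCat.Presheaf.stalkFunctor _ x).map
    (ZClos.rhoApp Z F).mapPresheaf).hom).mpr fun e he => ?_
  obtain ⟨W, hxW, s, rfl⟩ := germM_exist e
  have he' := (stalkMapM_germ (ZClos.rhoApp Z F) hxW s).symm.trans he
  obtain ⟨W', hW, hxW', h0⟩ := germM_eq_zero he'
  obtain ⟨A, hA, hxA, hAW⟩ := exists_compact_nhd (show x ∈ W' ⊓ U from ⟨hxW', hx⟩)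
  have hAW' : A ≤ W' := hAW.trans inf_le_left
  have h1 := congrArg (QC70.res _ hAW') h0
  rw [res_res, res_zero, ← app_res, rho_app_eq ⊥] at h1
  obtain ⟨T, hT, h2⟩ := exists_stage_of_γ_eq_zero hA h1
  rw [res_res] at h2
  have h3 : QC70.res F (hAW'.trans hW) s = 0 := by
    refine res_inj_of_no_ass hF hU (hAW.trans inf_le_right) T ?_
    rw [res_zero]
    exact h2
  rw [← germM_res (hAW'.trans hW) hxA s]
  exact (congrArg _ h3).trans (germM_zero _)

theorem exists_affine_nhd_no_ass (hF : Coh.IsCoh F) {x : X} (h : ∀ y, y ⤳ x → y ∈ Z → y ∉ AssSch.Ass F) :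
    ∃ U : X.affineOpens, x ∈ U.1 ∧ ∀ y ∈ U.1, y ∈ AssSch.Ass F → y ∉ Z := by
  obtain ⟨U, hxU⟩ := exists_affine_mem x
  haveI := finite_sections_of_coh hF U
  haveI : IsNoetherianRing Γ(X, U.1) := IsLocallyNoetherian.component_noetherian U
  let B : Set X := {y | y ∈ U.1 ∧ y ∈ AssSch.Ass F ∧ y ∈ Z}
  have hB : B.Finite := by
    have h1 : Finite {p : Ideal Γ(X, U.1) // p ∈ associatedPrimes Γ(X, U.1) Γ(F, U.1)} :=
      (associatedPrimes.finite Γ(X, U.1) Γ(F, U.1)).to_subtype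
    refine @Set.toFinite _ _ (Finite.of_injective (fun y : B => (⟨primeAt U y.1 y.2.1,
      (FBase64.AssSheaf.mem_ass_iff_associated F hF.1 U y.1 y.2.1).1 y.2.2.1⟩ :
        {p : Ideal Γ(X, U.1) // p ∈ associatedPrimes Γ(X, U.1) Γ(F, U.1)})) fun a b e => ?_)
    exact Subtype.ext (primeAt_inj U a.2.1 b.2.1 (congrArg Subtype.val e))
  have hC : IsClosed (⋃ y ∈ B, closure ({y} : Set X)) := hB.isClosed_biUnion fun _ _ => isClosed_closure
  have hxC : x ∉ ⋃ y ∈ B, closure ({y} : Set X) := by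
    simp only [Set.mem_iUnion, not_exists]
    exact fun y hy hx => h y (specializes_iff_mem_closure.mpr hx) hy.2.2 hy.2.1
  obtain ⟨V, hV, hxV, hVle⟩ := exists_isAffineOpen_mem_and_subset (X := X) (x := x)
    (U := U.1 ⊓ ⟨_, hC.isOpen_compl⟩) ⟨hxU, hxC⟩
  exact ⟨⟨V, hV⟩, hxV, fun y hy hass hyZ =>
    (hVle hy).2 (Set.mem_biUnion (show y ∈ B from ⟨(hVle hy).1, hass, hyZ⟩) (subset_closure rfl))⟩

theorem isZPureAt_iff (hZ : StableUnderSpecialization Z) (hF : Coh.IsCoh F) (x : X) :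
    Function.Injective (stalkMapM (ZClos.rhoApp Z F) x) ↔ ∀ y, y ⤳ x → y ∈ Z → y ∉ AssSch.Ass F := by
  refine ⟨fun hinj y hyx hyZ hass => ?_, fun h => ?_⟩
  · obtain ⟨U, hxU⟩ := exists_affine_mem x
    haveI : IsNoetherianRing Γ(X, U.1) := IsLocallyNoetherian.component_noetherian U
    have hyU : y ∈ U.1 := mem_affine_of_specializes hyx hxU
    obtain ⟨_, m, hm⟩ :=
      isAssociatedPrime_iff.mp ((FBase64.AssSheaf.mem_ass_iff_associated F hF.1 U y hyU).1 hass)
    have hmem : ∀ c : Γ(X, U.1), c ∈ primeAt U y hyU ↔ c • m = 0 := fun c => by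
      rw [hm, Submodule.mem_colon_singleton, Submodule.mem_bot]
    have hne : germM F U.1 x hxU m ≠ 0 := fun h0 => by
      obtain ⟨c, hc, hcm⟩ := (germ_eq_zero_iff F hF.1 U x hxU m).1 h0
      exact hc ((specializes_iff_primeAt_le U hxU hyU).1 hyx ((hmem c).2 hcm))
    have hres : QC70.res F (inf_le_left : U.1 ⊓ (pointCl hZ hyZ).U ≤ U.1) m = 0 := by
      refine eq_zero_of_germs _ fun z hz => ?_
      rw [germM_res]
      obtain ⟨c, hcy, hcz⟩ := SetLike.not_le_iff_exists.mp fun hle =>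
        (mem_pointCl_U_iff hZ hyZ).1 hz.2 ((specializes_iff_primeAt_le U hz.1 hyU).2 hle)
      exact (germ_eq_zero_iff F hF.1 U z hz.1 m).2 ⟨c, hcz, (hmem c).1 hcy⟩
    refine hne (hinj ?_)
    rw [stalkMapM_germ, rho_app_eq (pointCl hZ hyZ), hres, γ_zero]
    exact (germM_zero _).trans (map_zero ((TopCat.Presheaf.stalkFunctor _ x).map
      (ZClos.rhoApp Z F).mapPresheaf).hom).symm
  · obtain ⟨U, hxU, hU⟩ := exists_affine_nhd_no_ass hF h
    exact rhoStalk_injective_of_no_ass hF hxU hU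

theorem exists_regular (hF : Coh.IsCoh F) (U : X.affineOpens) (hU : ∀ y ∈ U.1, y ∈ AssSch.Ass F → y ∉ Z)
    (hZ : StableUnderSpecialization Z) {y : X} (hy : y ∈ U.1) (hyZ : y ∈ Z) :
    ∃ a ∈ primeAt U y hy, IsSMulRegular Γ(F, U.1) a := by
  haveI := finite_sections_of_coh hF U
  haveI : IsNoetherianRing Γ(X, U.1) := IsLocallyNoetherian.component_noetherian U
  by_contra hcon
  push Not at hcon
  rcases subsingleton_or_nontrivial Γ(F, U.1) with hM | hM
  · exact hcon 0 (zero_mem _) (fun a b _ => Subsingleton.elim a b)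
  obtain ⟨q, hq, hpq⟩ := EGA4Alg4.exists_le_assoc_of_forall_not_regular (primeAt U y hy) hcon
  haveI : q.IsPrime := hq.1
  obtain ⟨z, hz, rfl⟩ := exists_point U q
  exact hU z hz ((FBase64.AssSheaf.mem_ass_iff_associated F hF.1 U z hz).2 hq)
    (hZ ((specializes_iff_primeAt_le U hz hy).2 hpq) hyZ)

/-- An element regular on the sections over an affine open is regular on all its opens. -/
theorem eq_zero_of_smul (hF : Coh.IsCoh F) (U : X.affineOpens) {a : Γ(X, U.1)}
    (hreg : IsSMulRegular Γ(F, U.1) a) {W : X.Opens} (hW : W ≤ U.1) {d : Γ(F, W)}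
    (h : resO X hW a • d = 0) : d = 0 := by
  haveI : IsNoetherianRing Γ(X, U.1) := IsLocallyNoetherian.component_noetherian U
  refine FBase64.AssSheaf.section_eq_zero F hF.1 d fun y hy hass => ?_
  have hna : a ∉ primeAt U y (hW hy) := fun hmem => by
    obtain ⟨hp, z, hz⟩ :=
      isAssociatedPrime_iff.mp ((FBase64.AssSheaf.mem_ass_iff_associated F hF.1 U y (hW hy)).1 hass)
    rw [hz, Submodule.mem_colon_singleton, Submodule.mem_bot] at hmem
    have h0 : z = 0 := hreg (hmem.trans (smul_zero a).symm)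
    refine hp.ne_top ((Ideal.eq_top_iff_one _).2 ?_)
    rw [hz, Submodule.mem_colon_singleton, Submodule.mem_bot, h0, smul_zero]
  have h1 := congrArg (germM F W y hy) h
  rw [germM_smul, germ_resO] at h1
  exact ((germ_isUnit_iff U y (hW hy) a).2 hna).smul_eq_zero.mp (h1.trans (germM_zero hy))

/-- Clearing a denominator in the Z-closure. -/
theorem smul_γ {A : X.Opens} (hA : IsCompact (A : Set X)) (T : ZClos.Cl Z) (c : Γ(X, A))
    (t : Γ(F, A ⊓ T.U)) (m : Γ(F, A))
    (h : resO X (inf_le_left : A ⊓ T.U ≤ A) c • t = QC70.res F inf_le_left m) :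
    c • γ T A t = (ZClos.rhoApp Z F).app A m := by
  refine (resBij_H0 F T A hA).1 ?_
  have e : QC70.res ((ZClos.H0 Z).obj F) (inf_le_left : A ⊓ T.U ≤ A) (γ T A t) =
      (ZClos.rhoApp Z F).app (A ⊓ T.U) t := by
    rw [res_γ, rho_app_eq T]
  rw [res_smul, e, ← app_res, ← h]
  exact (Scheme.Modules.Hom.app_smul (ZClos.rhoApp Z F) _ t).symm

theorem stalk_surjective_of_smul {x : X} (hx' : ∀ e, ∃ (U : X.affineOpens) (hx : x ∈ U.1) (σ : Γ((ZClos.H0 Z).obj F, U.1)),
      germM _ U.1 x hx σ = e ∧ ∃ c ∉ primeAt U x hx, ∃ m, c • σ = (ZClos.rhoApp Z F).app U.1 m) :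
    Function.Surjective (stalkMapM (ZClos.rhoApp Z F) x) := by
  intro e
  obtain ⟨U, hx, σ, rfl, c, hc, m, hm⟩ := hx' e
  obtain ⟨v, hv⟩ := (germ_isUnit_iff U x hx c).2 hc
  refine ⟨(↑v⁻¹ : X.presheaf.stalk x) • germM F U.1 x hx m, ?_⟩
  refine ((stalkLinear (ZClos.rhoApp Z F) x).map_smul _ _).trans ?_
  show (↑v⁻¹ : X.presheaf.stalk x) • stalkMapM (ZClos.rhoApp Z F) x (germM F U.1 x hx m) = _
  rw [stalkMapM_germ, ← hm, germM_smul, smul_smul, ← hv, Units.inv_mul, one_smul]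

/-- The denominators of a section outside `T` are not contained in a prime of depth two. -/
theorem exists_denominator (hZ : StableUnderSpecialization Z) (hF : Coh.IsCoh F) (U : X.affineOpens)
    (hU : ∀ y ∈ U.1, y ∈ AssSch.Ass F → y ∉ Z) (T : ZClos.Cl Z) (t : Γ(F, U.1 ⊓ T.U))
    {x : X} (hx : x ∈ U.1)
    (h : ∀ y, y ⤳ x → y ∈ Z → (2 : ℕ∞) ≤ LocCoh.depth (X.presheaf.stalk y) (F.presheaf.stalk y)) :
    ∃ (c : Γ(X, U.1)) (m : Γ(F, U.1)), c ∉ primeAt U x hx ∧
      resO X (inf_le_left : U.1 ⊓ T.U ≤ U.1) c • t = QC70.res F inf_le_left m := by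
  haveI : F.IsQuasicoherent := hF.1
  haveI := finite_sections_of_coh hF U
  haveI : IsNoetherianRing Γ(X, U.1) := IsLocallyNoetherian.component_noetherian U
  let W : X.Opens := U.1 ⊓ T.U
  have hWU : W ≤ U.1 := inf_le_left
  letI : Module Γ(X, U.1) Γ(F, W) := Module.compHom Γ(F, W) (X.presheaf.map (homOfLE hWU).op).hom
  let r : Γ(F, U.1) →ₗ[Γ(X, U.1)] Γ(F, W) :=
    { toFun := fun m => QC70.res F hWU m
      map_add' := fun a b => res_add hWU a b
      map_smul' := fun a b => res_smul hWU a b }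
  have hrinj : Function.Injective r := res_inj_of_no_ass hF hU le_rfl T
  let N := LinearMap.range r
  suffices hI : ¬ N.colon {t} ≤ primeAt U x hx by
    obtain ⟨c, hc, hcx⟩ := SetLike.not_le_iff_exists.mp hI
    obtain ⟨m, hm⟩ := Submodule.mem_colon_singleton.mp hc
    exact ⟨c, m, hcx, hm.symm⟩
  intro hle
  obtain ⟨P, hP, hPx⟩ := Ideal.exists_minimalPrimes_le hle
  haveI : P.IsPrime := hP.1.1
  obtain ⟨t', ht'⟩ := Submodule.exists_eq_colon_of_mem_minimalPrimes (N := N) (x := t) hP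
  obtain ⟨y, hy, hyP⟩ := exists_point U P
  have hyx : y ⤳ x := (specializes_iff_primeAt_le U hx hy).2 (hyP ▸ hPx)
  have hPmem : ∀ c : Γ(X, U.1), c ∈ P ↔ ∃ m, r m = c • t' := fun c => by
    rw [ht', Submodule.mem_colon_singleton]
    rfl
  have hyZ : y ∈ Z := by
    by_contra hyZ
    have hyT : y ∈ T.U := fun h => hyZ (T.2 h)
    obtain ⟨f, hfW, hyf⟩ := U.2.exists_basicOpen_le (V := W) ⟨y, hy, hyT⟩ hy
    obtain ⟨n, m, hm⟩ := (isLocAt_of_isQuasicoherent F U.2).exists_of f (QC70.res F hfW t)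
    have hW : IsLocAt F W :=
      QCqs72.isLocAt_of_qcqs F (isCompact_of_le U.2.isCompact hWU) (U.2.isQuasiSeparated.of_subset hWU)
    obtain ⟨k, hk⟩ := hW.eq_zero_of (resO X hWU f) (resO X hWU f ^ n • t - QC70.res F hWU m) (by
      have he : X.basicOpen (resO X hWU f) ≤ X.basicOpen f := by
        rw [resO, Scheme.basicOpen_res]
        exact inf_le_right
      have h1 := congrArg (QC70.res F he) hm
      rw [res_res, res_pow_smul, res_res, resO_resO] at h1
      rw [res_sub, res_pow_smul, res_res, resO_resO, sub_eq_zero]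
      exact h1.symm)
    have hfI : f ^ (k + n) ∈ N.colon {t} := by
      rw [Submodule.mem_colon_singleton]
      refine ⟨f ^ k • m, ?_⟩
      show QC70.res F hWU (f ^ k • m) = resO X hWU (f ^ (k + n)) • t
      rw [smul_sub, sub_eq_zero, smul_smul, ← pow_add] at hk
      rw [res_pow_smul, resO_pow, hk]
    exact (mem_basicOpen_iff_notMem U y hy f).1 hyf
      ((primeAt_isPrime U y hy).mem_of_pow_mem _ (hyP ▸ hP.1.2 hfI))
  obtain ⟨a, ha, hreg⟩ := exists_regular hF U hU hZ hy hyZ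
  obtain ⟨m, hm⟩ := (hPmem a).1 (hyP ▸ ha)
  have h2 := (two_le_depth_iff_not_mem hF U y hy ha hreg).1 (h y hyx hyZ)
  let K : Submodule Γ(X, U.1) Γ(F, U.1) := Ideal.span {a} • ⊤
  have hK : ∀ z : Γ(F, U.1), z ∈ K ↔ ∃ w, a • w = z := fun z => by
    simp [K, Submodule.ideal_span_singleton_smul, Submodule.mem_smul_pointwise_iff_exists]
  have hle' : P ≤ (⊥ : Submodule Γ(X, U.1) (Γ(F, U.1) ⧸ K)).colon {(Submodule.Quotient.mk m : _ ⧸ K)} :=
    fun b hb => by
      obtain ⟨m', hm'⟩ := (hPmem b).1 hb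
      rw [Submodule.mem_colon_singleton, Submodule.mem_bot, ← Submodule.Quotient.mk_smul,
        Submodule.Quotient.mk_eq_zero, hK]
      exact ⟨m', hrinj (by rw [map_smul, map_smul, hm', hm, smul_comm])⟩
  obtain ⟨c, hc, hcP⟩ := SetLike.not_le_iff_exists.mp fun hge => h2 (by
    rw [hyP]
    exact isAssociatedPrime_iff.mpr ⟨inferInstance, _, le_antisymm hle' hge⟩)
  rw [Submodule.mem_colon_singleton, Submodule.mem_bot, ← Submodule.Quotient.mk_smul,
    Submodule.Quotient.mk_eq_zero, hK] at hc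
  obtain ⟨m', hm'⟩ := hc
  refine hcP ((hPmem c).2 ⟨m', ?_⟩)
  rw [← sub_eq_zero]
  refine eq_zero_of_smul hF U hreg hWU ?_
  show a • (r m' - c • t') = 0
  rw [smul_sub, ← map_smul, hm', map_smul, hm, smul_comm, sub_self]

theorem isZClosedAt_of_depth (hZ : StableUnderSpecialization Z) (hF : Coh.IsCoh F) {x : X}
    (h : ∀ y, y ⤳ x → y ∈ Z → (2 : ℕ∞) ≤ LocCoh.depth (X.presheaf.stalk y) (F.presheaf.stalk y)) :
    Function.Bijective (stalkMapM (ZClos.rhoApp Z F) x) := by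
  have h1 : ∀ y, y ⤳ x → y ∈ Z → y ∉ AssSch.Ass F := fun y hy hyZ =>
    (one_le_depth_iff_not_ass hF y).1 (le_trans (by norm_num) (h y hy hyZ))
  obtain ⟨U₀, hxU₀, hU₀⟩ := exists_affine_nhd_no_ass hF h1
  refine ⟨(isZPureAt_iff hZ hF x).2 h1, stalk_surjective_of_smul fun e => ?_⟩
  obtain ⟨W, hxW, σ₀, rfl⟩ := germM_exist e
  obtain ⟨A, hA, hxA, hAW⟩ := exists_isAffineOpen_mem_and_subset (X := X) (x := x)
    (U := W ⊓ U₀.1) ⟨hxW, hxU₀⟩
  have hAW' : A ≤ W := fun p hp => (hAW hp).1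
  obtain ⟨T, t, ht⟩ := exists_γ hA.isCompact (QC70.res _ hAW' σ₀)
  obtain ⟨c, m, hc, hm⟩ := exists_denominator hZ hF ⟨A, hA⟩ (fun y hy => hU₀ y (hAW hy).2) T t hxA h
  exact ⟨⟨A, hA⟩, hxA, γ T A t, by rw [ht, germM_res], c, hc, m, smul_γ hA.isCompact T c t m hm⟩

theorem depth_of_isZClosedAt (hZ : StableUnderSpecialization Z) (hF : Coh.IsCoh F) {x : X}
    (hb : Function.Bijective (stalkMapM (ZClos.rhoApp Z F) x)) (y : X) (hyx : y ⤳ x) (hyZ : y ∈ Z) :
    (2 : ℕ∞) ≤ LocCoh.depth (X.presheaf.stalk y) (F.presheaf.stalk y) := by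
  classical
  have h1 := (isZPureAt_iff hZ hF x).1 hb.1
  obtain ⟨U, hxU, hU⟩ := exists_affine_nhd_no_ass hF h1
  have hyU : y ∈ U.1 := mem_affine_of_specializes hyx hxU
  haveI := finite_sections_of_coh hF U
  haveI : IsNoetherianRing Γ(X, U.1) := IsLocallyNoetherian.component_noetherian U
  obtain ⟨a, ha, hreg⟩ := exists_regular hF U hU hZ hyU hyZ
  rw [two_le_depth_iff_not_mem hF U y hyU ha hreg]
  intro hass
  obtain ⟨hpp, z, hz⟩ := isAssociatedPrime_iff.mp hass
  obtain ⟨m, rfl⟩ := Submodule.Quotient.mk_surjective _ z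
  let P := primeAt U y hyU
  have hmem : ∀ b : Γ(X, U.1), b ∈ P ↔ ∃ w, a • w = b • m := fun b => by
    rw [show b ∈ P ↔ _ from SetLike.ext_iff.mp hz b, Submodule.mem_colon_singleton, Submodule.mem_bot,
      ← Submodule.Quotient.mk_smul, Submodule.Quotient.mk_eq_zero, Submodule.ideal_span_singleton_smul,
      Submodule.mem_smul_pointwise_iff_exists]
    simp
  choose w hw using fun b : P => (hmem b.1).1 b.2
  let W : X.Opens := U.1 ⊓ (pointCl hZ hyZ).U
  have hWU : W ≤ U.1 := inf_le_left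
  have hDW : ∀ b : P, X.basicOpen b.1 ≤ W := fun b z hz => by
    have hzU : z ∈ U.1 := X.basicOpen_le _ hz
    exact ⟨hzU, (mem_pointCl_U_iff hZ hyZ).2 fun hs =>
      (mem_basicOpen_iff_notMem U z hzU b.1).1 hz ((specializes_iff_primeAt_le U hzU hyU).1 hs b.2)⟩
  have hu : ∀ b : P, IsUnit (resO X (X.basicOpen_le b.1) b.1) := fun b =>
    RingedSpace.isUnit_res_basicOpen _ b.1
  choose v hv' using fun b : P => (hu b).exists_left_inv
  let s : ∀ b : P, Γ(F, X.basicOpen b.1) := fun b => v b • QC70.res F (X.basicOpen_le b.1) (w b)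
  have hs : ∀ b : P, resO X (X.basicOpen_le b.1) a • s b = QC70.res F (X.basicOpen_le b.1) m := fun b => by
    show _ • v b • _ = _
    rw [smul_comm, ← res_smul, hw b, res_smul, smul_smul, hv' b, one_smul]
  obtain ⟨σ, hσ⟩ := exists_glue F (U := W) (fun b : P => X.basicOpen b.1) hDW
    (fun z hz => by
      obtain ⟨b, hby, hbz⟩ := SetLike.not_le_iff_exists.mp fun hle =>
        (mem_pointCl_U_iff hZ hyZ).1 hz.2 ((specializes_iff_primeAt_le U hz.1 hyU).2 hle)
      exact Opens.mem_iSup.mpr ⟨⟨b, hby⟩, (mem_basicOpen_iff_notMem U z hz.1 b).2 hbz⟩)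
    s (fun b b' => by
      rw [← sub_eq_zero]
      refine eq_zero_of_smul hF U hreg (inf_le_left.trans (X.basicOpen_le b.1)) ?_
      have h2 := congrArg (QC70.res F (inf_le_left : X.basicOpen b.1 ⊓ X.basicOpen b'.1 ≤ _)) (hs b)
      have h3 := congrArg (QC70.res F (inf_le_right : X.basicOpen b.1 ⊓ X.basicOpen b'.1 ≤ _)) (hs b')
      simp only [res_smul, res_res, resO_resO] at h2 h3
      rw [smul_sub, h2, h3, sub_self])
  have haσ : resO X hWU a • σ = QC70.res F hWU m := by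
    refine section_ext' F (fun b : P => X.basicOpen b.1) hDW (fun z hz => ?_) _ _ fun b => ?_
    · obtain ⟨b, hby, hbz⟩ := SetLike.not_le_iff_exists.mp fun hle =>
        (mem_pointCl_U_iff hZ hyZ).1 hz.2 ((specializes_iff_primeAt_le U hz.1 hyU).2 hle)
      exact Opens.mem_iSup.mpr ⟨⟨b, hby⟩, (mem_basicOpen_iff_notMem U z hz.1 b).2 hbz⟩
    · rw [res_smul, hσ b, resO_resO, res_res, hs b]
  have hkey := smul_γ U.2.isCompact (pointCl hZ hyZ) a σ m haσ
  obtain ⟨e, he⟩ := hb.2 (germM _ U.1 x hxU (γ (pointCl hZ hyZ) U.1 σ))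
  letI := Div89.stalkModule F U.1 x hxU
  haveI := isLocalizedModule_germLin F hF.1 U x hxU
  obtain ⟨⟨m', c⟩, hc⟩ := IsLocalizedModule.surj (primeAt U x hxU).primeCompl (germLin F U.1 x hxU) e
  have hc' : X.presheaf.germ U.1 x hxU c.1 • e = germM F U.1 x hxU m' := hc
  have e1 : germM F U.1 x hxU (a • m') = germM F U.1 x hxU (c.1 • m) := by
    refine hb.1 ?_
    rw [stalkMapM_germ (ZClos.rhoApp Z F) hxU (c.1 • m), Scheme.Modules.Hom.app_smul, ← hkey]
    simp only [germM_smul]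
    rw [← he, ← hc']
    simp only [smul_smul]
    rw [mul_comm (X.presheaf.germ U.1 x hxU c.1)]
    exact (stalkLinear (ZClos.rhoApp Z F) x).map_smul _ _
  have e2 : germM F U.1 x hxU (a • m' - c.1 • m) = 0 :=
    (map_sub (F.presheaf.germ U.1 x hxU).hom _ _).trans (sub_eq_zero.mpr e1)
  obtain ⟨c', hc'x, hc'0⟩ := (germ_eq_zero_iff F hF.1 U x hxU _).1 e2
  have hP : c' * c.1 ∈ P := (hmem _).2 ⟨c' • m', by
    rw [smul_sub, sub_eq_zero] at hc'0
    rw [smul_comm, hc'0, mul_smul]⟩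
  rcases (primeAt_isPrime U y hyU).mem_or_mem hP with h' | h'
  · exact hc'x ((specializes_iff_primeAt_le U hxU hyU).1 hyx h')
  · exact c.2 ((specializes_iff_primeAt_le U hxU hyU).1 hyx h')

theorem isZClosedAt_iff (hZ : StableUnderSpecialization Z) (hF : Coh.IsCoh F) (x : X) :
    Function.Bijective (stalkMapM (ZClos.rhoApp Z F) x) ↔
      ∀ y, y ⤳ x → y ∈ Z → (2 : ℕ∞) ≤ LocCoh.depth (X.presheaf.stalk y) (F.presheaf.stalk y) :=
  ⟨depth_of_isZClosedAt hZ hF, isZClosedAt_of_depth hZ hF⟩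

end Groth.Agent.ZClos93
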