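import Groth.Agent.QC70.Closure
import Mathlib.RingTheory.Flat.Basic
import Mathlib.LinearAlgebra.TensorProduct.Pi

/-! Sections outside a closed subset of an affine scheme, through an exactness property stable under flat
base change. -/

set_option autoImplicit false
set_option backward.isDefEq.respectTransparency false

noncomputable section

universe u

open CategoryTheory AlgebraicGeometry TopologicalSpace Opposite
open scoped TensorProduct
open Groth.Agent.QC70

namespace Groth.Agent.ZClos93.Cech

section Algebra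

variable {A : Type u} [CommRing A] {r : ℕ} (g : Fin r → A) (M : Type u) [AddCommGroup M] [Module A M]

/-- Multiplication by the powers. -/
def d0 (n : ℕ) : M →ₗ[A] (Fin r → M) := LinearMap.pi fun i => g i ^ n • LinearMap.id

/-- The compatibility map. -/
def d1 (n : ℕ) : (Fin r → M) →ₗ[A] (Fin r × Fin r → M) :=
  LinearMap.pi fun p => g p.2 ^ n • LinearMap.proj p.1 - g p.1 ^ n • LinearMap.proj p.2

theorem d0_apply (n : ℕ) (m : M) (i : Fin r) : d0 g M n m i = g i ^ n • m := rfl

theorem d1_apply (n : ℕ) (z : Fin r → M) (p : Fin r × Fin r) :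
    d1 g M n z p = g p.2 ^ n • z p.1 - g p.1 ^ n • z p.2 := rfl

/-- Sections outside the zero locus of the family are the elements of the module. -/
def IsCechExact : Prop :=
  ∀ n : ℕ, Function.Injective (d0 g M n) ∧ Function.Exact (d0 g M n) (d1 g M n)

variable {g M}

theorem IsCechExact.of_equiv {N : Type u} [AddCommGroup N] [Module A N] (e : N ≃ₗ[A] M)
    (h : IsCechExact g M) : IsCechExact g N := by
  intro n
  constructor
  · intro a b hab
    refine e.injective ((h n).1 (funext fun i => ?_))
    rw [d0_apply, d0_apply, ← map_smul, ← map_smul, ← d0_apply g N, hab, d0_apply]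
  · intro z
    constructor
    · intro hz
      have hz' : d1 g M n (fun i => e (z i)) = 0 := funext fun p => by
        rw [d1_apply, ← map_smul, ← map_smul, ← map_sub, ← d1_apply g N, hz, Pi.zero_apply, map_zero,
          Pi.zero_apply]
      obtain ⟨w, hw⟩ := ((h n).2 _).1 hz'
      refine ⟨e.symm w, funext fun i => e.injective ?_⟩
      rw [d0_apply, map_smul, e.apply_symm_apply, ← d0_apply g M, hw]
    · rintro ⟨w, rfl⟩
      funext p
      rw [d1_apply, d0_apply, d0_apply, smul_smul, smul_smul, mul_comm, sub_self, Pi.zero_apply]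

theorem IsCechExact.baseChange {B : Type u} [CommRing B] [Algebra A B] [Module.Flat A B]
    (h : IsCechExact g M) : IsCechExact (fun i => algebraMap A B (g i)) (B ⊗[A] M) := by
  classical
  intro n
  let e₁ := TensorProduct.piRight A B B (fun _ : Fin r => M)
  let e₂ := TensorProduct.piRight A B B (fun _ : Fin r × Fin r => M)
  have h0 : ∀ t, d0 (fun i => algebraMap A B (g i)) (B ⊗[A] M) n t = e₁ ((d0 g M n).lTensor B t) := by
    intro t
    induction t with
    | zero => simp
    | add a b ha hb => rw [map_add, ha, hb, map_add, map_add]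
    | tmul b m =>
      funext i
      rw [d0_apply]
      simp [e₁, d0_apply, ← map_pow, algebraMap_smul]
  have h1 : ∀ t, d1 (fun i => algebraMap A B (g i)) (B ⊗[A] M) n (e₁ t) = e₂ ((d1 g M n).lTensor B t) := by
    intro t
    induction t with
    | zero => simp
    | add a b ha hb => simp only [map_add, ha, hb]
    | tmul b z =>
      funext p
      rw [d1_apply]
      simp [e₁, e₂, d1_apply, ← map_pow, algebraMap_smul, TensorProduct.tmul_sub]
  have hex := Module.Flat.lTensor_exact B (h n).2
  constructor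
  · intro a b hab
    rw [h0, h0] at hab
    exact Module.Flat.lTensor_preserves_injective_linearMap _ (h n).1 (e₁.injective hab)
  · intro z
    obtain ⟨t, rfl⟩ := e₁.surjective z
    rw [h1, LinearEquiv.map_eq_zero_iff, hex t]
    exact ⟨fun ⟨w, hw⟩ => ⟨w, by rw [h0, hw]⟩, fun ⟨w, hw⟩ => ⟨w, e₁.injective (by rw [← h0, hw])⟩⟩

end Algebra

section Scheme

variable {X : Scheme.{u}} {F : X.Modules} {U W : X.Opens} {r : ℕ} (g : Fin r → Γ(X, U))

theorem eq_of_smul_pow {D U' : X.Opens} (hD : D ≤ U') {f : Γ(X, U')} (hu : IsUnit (resO X hD f)) (n : ℕ)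
    {a b : Γ(F, D)} (h : resO X hD f ^ n • a = resO X hD f ^ n • b) : a = b :=
  (hu.pow n).smul_left_cancel.mp h

theorem isUnit_resO_basicOpen (f : Γ(X, U)) : IsUnit (resO X (X.basicOpen_le f) f) :=
  RingedSpace.isUnit_res_basicOpen _ f

theorem isCechExact_of_bijective (hWU : W ≤ U) (hD : ∀ i, X.basicOpen (g i) ≤ W)
    (hcov : W ≤ ⨆ i, X.basicOpen (g i)) (h : Function.Bijective (QC70.res F hWU)) :
    IsCechExact g Γ(F, U) := by
  classical
  intro n
  have hres0 : ∀ m, (∀ i, QC70.res F (X.basicOpen_le (g i)) m = 0) → m = 0 := fun m hm => by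
    refine h.1 (section_ext' F (fun i => X.basicOpen (g i)) hD hcov _ _ fun i => ?_)
    rw [res_res, res_res, hm i, res_zero]
  constructor
  · intro a b hab
    rw [← sub_eq_zero]
    refine hres0 _ fun i => ?_
    have h1 : g i ^ n • (a - b) = 0 := by rw [smul_sub, ← d0_apply g Γ(F, U), hab, d0_apply, sub_self]
    refine eq_of_smul_pow (X.basicOpen_le (g i)) (isUnit_resO_basicOpen _) n ?_
    rw [← res_pow_smul, h1, res_zero, smul_zero]
  · intro z
    constructor
    · intro hz
      have hrel : ∀ i j, g j ^ n • z i = g i ^ n • z j := fun i j => by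
        rw [← sub_eq_zero, ← d1_apply g Γ(F, U) n z (i, j), hz, Pi.zero_apply]
      choose v hv using fun i => ((isUnit_resO_basicOpen (g i)).pow n).exists_left_inv
      let s : ∀ i, Γ(F, X.basicOpen (g i)) := fun i => v i • QC70.res F (X.basicOpen_le (g i)) (z i)
      have hs : ∀ i, resO X (X.basicOpen_le (g i)) (g i) ^ n • s i = QC70.res F (X.basicOpen_le (g i)) (z i) :=
        fun i => by
          show _ • v i • _ = _
          rw [smul_smul, mul_comm, hv i, one_smul]
      obtain ⟨t, ht⟩ := exists_glue F (U := W) (fun i => X.basicOpen (g i)) hD hcov s fun i j => by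
        let D := X.basicOpen (g i) ⊓ X.basicOpen (g j)
        have hDU : D ≤ U := inf_le_left.trans (X.basicOpen_le _)
        have hui : IsUnit (resO X hDU (g i)) := by
          have := (isUnit_resO_basicOpen (g i)).map (X.presheaf.map (homOfLE (inf_le_left : D ≤ _)).op).hom
          rwa [show (X.presheaf.map (homOfLE (inf_le_left : D ≤ _)).op).hom
            (resO X (X.basicOpen_le (g i)) (g i)) = resO X hDU (g i) from resO_resO _ _ _] at this
        have huj : IsUnit (resO X hDU (g j)) := by
          have := (isUnit_resO_basicOpen (g j)).map (X.presheaf.map (homOfLE (inf_le_right : D ≤ _)).op).hom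
          rwa [show (X.presheaf.map (homOfLE (inf_le_right : D ≤ _)).op).hom
            (resO X (X.basicOpen_le (g j)) (g j)) = resO X hDU (g j) from resO_resO _ _ _] at this
        have hi := congrArg (QC70.res F (inf_le_left : D ≤ _)) (hs i)
        have hj := congrArg (QC70.res F (inf_le_right : D ≤ _)) (hs j)
        simp only [res_smul, res_res, resO_pow, resO_resO] at hi hj
        refine eq_of_smul_pow hDU hui n (eq_of_smul_pow hDU huj n ?_)
        rw [hi, smul_comm, hj, ← res_pow_smul, hrel, res_pow_smul]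
      obtain ⟨m, hm⟩ := h.2 t
      refine ⟨m, funext fun i => ?_⟩
      rw [d0_apply, ← sub_eq_zero]
      refine hres0 _ fun j => eq_of_smul_pow (X.basicOpen_le (g j)) (isUnit_resO_basicOpen _) n ?_
      have hj : resO X (X.basicOpen_le (g j)) (g j) ^ n • QC70.res F (X.basicOpen_le (g j)) m =
          QC70.res F (X.basicOpen_le (g j)) (z j) := by
        rw [← hs j, ← ht j, ← hm, res_res]
      rw [res_sub, res_pow_smul, smul_sub, smul_comm, hj, ← res_pow_smul, ← res_pow_smul, ← hrel i j,
        sub_self, smul_zero]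
    · rintro ⟨w, rfl⟩
      funext p
      rw [d1_apply, d0_apply, d0_apply, smul_smul, smul_smul, mul_comm, sub_self, Pi.zero_apply]

theorem bijective_of_isCechExact (hF : IsLocAt F U) (hWU : W ≤ U) (hD : ∀ i, X.basicOpen (g i) ≤ W)
    (hcov : W ≤ ⨆ i, X.basicOpen (g i)) (h : IsCechExact g Γ(F, U)) :
    Function.Bijective (QC70.res F hWU) := by
  classical
  constructor
  · intro a b hab
    have hloc : ∀ i, ∃ k : ℕ, g i ^ k • (a - b) = 0 := fun i => hF.eq_zero_of (g i) (a - b) (by
      rw [← res_res hWU (hD i), res_sub, hab, sub_self, res_zero])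
    choose k hk using hloc
    rw [← sub_eq_zero]
    refine (h (Finset.univ.sup k)).1 (funext fun i => ?_)
    rw [d0_apply, d0_apply, smul_zero, ← Nat.sub_add_cancel (Finset.le_sup (f := k) (Finset.mem_univ i)),
      pow_add, mul_smul, hk i, smul_zero]
  · intro t
    choose k₀ m₀ hm₀ using fun i => hF.exists_of (g i) (QC70.res F (hD i) t)
    let n := Finset.univ.sup k₀
    let m₁ : Fin r → Γ(F, U) := fun i => g i ^ (n - k₀ i) • m₀ i
    have hm₁ : ∀ i, QC70.res F (X.basicOpen_le (g i)) (m₁ i) =
        resO X (X.basicOpen_le (g i)) (g i) ^ n • QC70.res F (hD i) t := fun i => by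
      rw [res_pow_smul, hm₀ i, smul_smul, ← pow_add, Nat.sub_add_cancel (Finset.le_sup (Finset.mem_univ i))]
    clear_value m₁
    have hloc : ∀ p : Fin r × Fin r, ∃ k : ℕ, (g p.1 * g p.2) ^ k • (g p.2 ^ n • m₁ p.1 - g p.1 ^ n • m₁ p.2) = 0 := by
      intro p
      refine hF.eq_zero_of (g p.1 * g p.2) _ ?_
      have e : X.basicOpen (g p.1 * g p.2) ≤ X.basicOpen (g p.1) ⊓ X.basicOpen (g p.2) :=
        (X.basicOpen_mul _ _).le
      have h1 := congrArg (QC70.res F (e.trans inf_le_left)) (hm₁ p.1)
      have h2 := congrArg (QC70.res F (e.trans inf_le_right)) (hm₁ p.2)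
      simp only [res_smul, res_res, resO_pow, resO_resO] at h1 h2
      rw [res_sub, res_pow_smul, res_pow_smul, h1, h2, smul_comm, sub_self]
    choose k₁ hk₁ using hloc
    let k := Finset.univ.sup k₁
    have hk : ∀ i j, (g i * g j) ^ k • (g j ^ n • m₁ i - g i ^ n • m₁ j) = 0 := fun i j => by
      obtain ⟨d, hd⟩ := Nat.exists_eq_add_of_le (show k₁ (i, j) ≤ k from Finset.le_sup (Finset.mem_univ (i, j)))
      rw [hd, add_comm, pow_add, mul_smul, hk₁ (i, j), smul_zero]
    obtain ⟨m, hm⟩ := ((h (n + k)).2 fun i => g i ^ k • m₁ i).1 (funext fun p => by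
      rw [d1_apply, Pi.zero_apply, ← hk p.1 p.2, smul_sub, smul_smul, smul_smul, smul_smul, smul_smul]
      congr 1 <;> (congr 1; ring))
    refine ⟨m, section_ext' F (fun i => X.basicOpen (g i)) hD hcov _ _ fun i => ?_⟩
    refine eq_of_smul_pow (X.basicOpen_le (g i)) (isUnit_resO_basicOpen _) (n + k) ?_
    rw [res_res, ← res_pow_smul, ← d0_apply g Γ(F, U), hm, res_pow_smul, hm₁ i, smul_smul, ← pow_add,
      add_comm k n]

theorem exists_family (hU : IsAffineOpen U) (hW : IsCompact (W : Set X)) (hWU : W ≤ U) :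
    ∃ (r : ℕ) (g : Fin r → Γ(X, U)), (∀ i, X.basicOpen (g i) ≤ W) ∧ W ≤ ⨆ i, X.basicOpen (g i) := by
  choose f hf hpf using fun p : (W : Set X) =>
    hU.exists_basicOpen_le (V := W) ⟨p.1, p.2⟩ (hWU p.2)
  obtain ⟨t, ht⟩ := hW.elim_finite_subcover (fun p => (X.basicOpen (f p) : Set X)) (fun p => (X.basicOpen _).2)
    fun p hp => Set.mem_iUnion.mpr ⟨⟨p, hp⟩, hpf ⟨p, hp⟩⟩
  refine ⟨t.card, fun i => f (t.equivFin.symm i).1, fun i => hf _, fun p hp => ?_⟩
  obtain ⟨q, hq, hpq⟩ := Set.mem_iUnion₂.mp (ht hp)
  exact Opens.mem_iSup.mpr ⟨t.equivFin ⟨q, hq⟩, by simpa using hpq⟩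

end Scheme

end Groth.Agent.ZClos93.Cech
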