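import Groth.Agent.ZClos93.FiltColim
import Groth.Agent.Coh69.Grothendieck
import Groth.Agent.QC70.Colim
import Groth.Agent.QCqs72.Basic
import Groth.Prelude.Def_ZClos
import Groth.Prelude.Def_Coh

/-! Exactness and quasi-coherence of the Z-closure. -/

set_option autoImplicit false
set_option backward.isDefEq.respectTransparency false

noncomputable section

universe u

open CategoryTheory Limits AlgebraicGeometry TopologicalSpace Opposite
open Groth.Agent.QC70

namespace Groth.Agent.ZClos93

variable {X Y : Scheme.{u}} (Z : Set X)

theorem preservesFiniteLimits_restrictFunctor (f : X ⟶ Y) [IsOpenImmersion f] :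
    PreservesFiniteLimits (Scheme.Modules.restrictFunctor f) := by
  have : PreservesColimitsOfSize.{0, 0} (Scheme.Modules.restrictFunctor f) :=
    (Scheme.Modules.restrictAdjunction f).leftAdjoint_preservesColimits
  have : (Scheme.Modules.restrictFunctor f).PreservesMonomorphisms :=
    ⟨fun φ _ => mono_of_app_injective _ fun U => app_injective_of_mono φ (f ''ᵁ U)⟩
  have := preservesBinaryBiproducts_of_preservesBinaryCoproducts (Scheme.Modules.restrictFunctor f)
  have : (Scheme.Modules.restrictFunctor f).Additive := Functor.additive_of_preservesBinaryBiproducts _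
  have hh := (Scheme.Modules.restrictFunctor f).preservesHomology_of_preservesMonos_and_cokernels
  have := fun {A B : Y.Modules} (φ : A ⟶ B) => Functor.PreservesHomology.preservesKernels (F := Scheme.Modules.restrictFunctor f) φ
  exact Functor.preservesFiniteLimits_of_preservesKernels _

theorem preservesFiniteLimits_H0 : PreservesFiniteLimits (ZClos.H0 Z) := by
  have : PreservesFiniteLimits (ZClos.diagram Z) := ⟨fun J _ _ => by
    refine preservesLimitsOfShape_of_evaluation _ _ fun T => ?_
    have : PreservesFiniteLimits (Scheme.Modules.restrictFunctor T.U.ι) := preservesFiniteLimits_restrictFunctor _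
    have : PreservesFiniteLimits (Scheme.Modules.pushforward T.U.ι) :=
      have : PreservesLimitsOfSize.{0, 0} (Scheme.Modules.pushforward T.U.ι) :=
        (Scheme.Modules.restrictAdjunction T.U.ι).rightAdjoint_preservesLimits
      PreservesLimitsOfSize.preservesFiniteLimits _
    have h : PreservesLimitsOfShape J (ZClos.resPush T.U) := inferInstance
    exact h⟩
  exact comp_preservesFiniteLimits (ZClos.diagram Z) colim

variable [IsLocallyNoetherian X]

theorem quasiCompact_ι (U : X.Opens) : QuasiCompact U.ι := by
  refine ⟨fun W hWo hW => ?_⟩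
  rw [U.ι.isOpenEmbedding.isInducing.isCompact_iff, Set.image_preimage_eq_inter_range]
  refine isCompact_of_le (U := ⟨_, hWo.inter (Scheme.Opens.range_ι U ▸ U.2)⟩) (V := ⟨W, hWo⟩) hW ?_
  exact Set.inter_subset_left

theorem isQuasicoherent_resPush (U : X.Opens) (F : X.Modules) [F.IsQuasicoherent] :
    ((ZClos.resPush U).obj F).IsQuasicoherent :=
  have := quasiCompact_ι U
  QCqs72.isQuasicoherent_pushforward _ U.ι

theorem isQuasicoherent_H0 (F : X.Modules) [F.IsQuasicoherent] :
    ((ZClos.H0 Z).obj F).IsQuasicoherent :=
  isQuasicoherent_colimit ((ZClos.diagram Z).obj F) (fun T => isQuasicoherent_resPush T.U F)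
    (colimit.isColimit _)

end Groth.Agent.ZClos93
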