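import Groth.Agent.ZClos93.Closed
import Groth.Agent.ZClos93.Exact
import Groth.Agent.ZClos93.Cech
import Groth.Agent.FlatMor68.PullbackNatural
import Mathlib.AlgebraicGeometry.Morphisms.Flat
import Groth.Agent.FBase64.AssSheaf
import Mathlib.RingTheory.TensorProduct.Quotient

/-! Flat base change of the Z-closure. -/

set_option autoImplicit false
set_option linter.style.haveILetI false
set_option backward.isDefEq.respectTransparency false

noncomputable section

universe u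

open CategoryTheory Limits AlgebraicGeometry TopologicalSpace Opposite Topology TensorProduct
open Groth.Agent.QC70 Groth.Agent.QCPull72 Groth.Agent.FlatMor68.PullbackNatural

namespace Groth.Agent.ZClos93

variable {X X' : Scheme.{u}} (f : X' ⟶ X) {Z : Set X} {G : X.Modules}

theorem flat_appLE [Flat f] {U : X.Opens} (hU : IsAffineOpen U) {V : X'.Opens} (hV : IsAffineOpen V)
    (e : V ≤ f ⁻¹ᵁ U) : (f.appLE U V e).hom.Flat :=
  HasRingHomProperty.appLE @Flat f inferInstance ⟨U, hU⟩ ⟨V, hV⟩ e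

/-- The inverse image of a member of the index. -/
def pullCl (T : ZClos.Cl Z) : ZClos.Cl (f.base ⁻¹' Z) :=
  ⟨⟨f.base ⁻¹' T.1, T.1.isClosed.preimage f.continuous⟩, Set.preimage_mono T.2⟩

theorem pullCl_U (T : ZClos.Cl Z) : (pullCl f T).U = f ⁻¹ᵁ T.U := rfl

theorem res_bijective_pullback_affine [IsLocallyNoetherian X] [Flat f] [G.IsQuasicoherent] (hG : ResBij Z G)
    (T : ZClos.Cl Z) {U : X.Opens} (hU : IsAffineOpen U) {V : X'.Opens} (hV : IsAffineOpen V)
    (e : V ≤ f ⁻¹ᵁ U) :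
    Function.Bijective (QC70.res ((Scheme.Modules.pullback f).obj G)
      (inf_le_left : V ⊓ (pullCl f T).U ≤ V)) := by
  haveI := QCPull72.isQuasicoherent_pullback f G
  obtain ⟨r, g, hD, hcov⟩ := Cech.exists_family hU (isCompact_of_le hU.isCompact inf_le_left)
    (inf_le_left : U ⊓ T.U ≤ U)
  have h1 := Cech.isCechExact_of_bijective g inf_le_left hD hcov (hG T U hU.isCompact)
  letI := (f.appLE U V e).hom.toAlgebra
  haveI : Module.Flat Γ(X, U) Γ(X', V) := flat_appLE f hU hV e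
  have h2 : Cech.IsCechExact (fun i => (f.appLE U V e).hom (g i)) Γ((Scheme.Modules.pullback f).obj G, V) :=
    (h1.baseChange (B := Γ(X', V))).of_equiv (sectionsPullbackEquiv f G hU hV e)
  have hb : ∀ i, X'.basicOpen ((f.appLE U V e).hom (g i)) = V ⊓ f ⁻¹ᵁ X.basicOpen (g i) := fun i => by
    simp [Scheme.Hom.appLE, Scheme.basicOpen_res, Scheme.preimage_basicOpen]
  refine Cech.bijective_of_isCechExact _ (isLocAt_of_isQuasicoherent _ hV) inf_le_left (fun i => ?_) ?_ h2
  · rw [hb]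
    exact inf_le_inf_left V fun p hp => (hD i hp).2
  · intro p hp
    obtain ⟨i, hi⟩ := Opens.mem_iSup.mp (hcov (show f p ∈ U ⊓ T.U from ⟨e hp.1, hp.2⟩))
    refine Opens.mem_iSup.mpr ⟨i, ?_⟩
    rw [hb]
    exact ⟨hp.1, hi⟩

theorem exists_affine_basis {A : X'.Opens} {p : X'} (hp : p ∈ A) :
    ∃ (U : X.Opens) (V : X'.Opens), IsAffineOpen U ∧ IsAffineOpen V ∧ p ∈ V ∧ V ≤ A ∧ V ≤ f ⁻¹ᵁ U := by
  obtain ⟨U, hU, hfU, -⟩ := exists_isAffineOpen_mem_and_subset (X := X) (x := f p) (U := ⊤) trivial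
  obtain ⟨V, hV, hpV, hVle⟩ := exists_isAffineOpen_mem_and_subset (X := X') (x := p) (U := A ⊓ f ⁻¹ᵁ U) ⟨hp, hfU⟩
  exact ⟨U, V, hU, hV, hpV, fun q hq => (hVle hq).1, fun q hq => (hVle hq).2⟩

theorem res_bijective_pullback [IsLocallyNoetherian X] [Flat f] [G.IsQuasicoherent] (hG : ResBij Z G)
    (T : ZClos.Cl Z) (A : X'.Opens) :
    Function.Bijective (QC70.res ((Scheme.Modules.pullback f).obj G)
      (inf_le_left : A ⊓ (pullCl f T).U ≤ A)) := by
  let W := (pullCl f T).U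
  have hinj : ∀ A : X'.Opens, Function.Injective (QC70.res ((Scheme.Modules.pullback f).obj G) (inf_le_left : A ⊓ W ≤ A)) := by
    intro A a b hab
    refine section_ext ((Scheme.Modules.pullback f).obj G) a b fun p hp => ?_
    obtain ⟨U, V, hU, hV, hpV, hVA, hVU⟩ := exists_affine_basis f hp
    refine ⟨V, hVA, hpV, (res_bijective_pullback_affine f hG T hU hV hVU).1 ?_⟩
    have h1 := congrArg (QC70.res ((Scheme.Modules.pullback f).obj G) (inf_le_inf_right W hVA : V ⊓ W ≤ A ⊓ W)) hab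
    simp only [res_res] at h1 ⊢
    exact h1
  refine ⟨hinj A, fun t => ?_⟩
  have hloc : ∀ p : (A : Set X'), ∃ (V : X'.Opens) (hVA : V ≤ A), p.1 ∈ V ∧
      ∃ s : Γ(((Scheme.Modules.pullback f).obj G), V), QC70.res ((Scheme.Modules.pullback f).obj G) (inf_le_left : V ⊓ W ≤ V) s = QC70.res ((Scheme.Modules.pullback f).obj G) (inf_le_inf_right W hVA) t := by
    intro p
    obtain ⟨U, V, hU, hV, hpV, hVA, hVU⟩ := exists_affine_basis f p.2
    exact ⟨V, hVA, hpV, (res_bijective_pullback_affine f hG T hU hV hVU).2 _⟩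
  choose V hVA hpV s hs using hloc
  obtain ⟨σ, hσ⟩ := exists_glue ((Scheme.Modules.pullback f).obj G) V hVA (fun p hp => Opens.mem_iSup.mpr ⟨⟨p, hp⟩, hpV ⟨p, hp⟩⟩) s
    fun i j => by
      refine hinj _ ?_
      have hi := congrArg (QC70.res ((Scheme.Modules.pullback f).obj G) (inf_le_inf_right W inf_le_left : V i ⊓ V j ⊓ W ≤ V i ⊓ W)) (hs i)
      have hj := congrArg (QC70.res ((Scheme.Modules.pullback f).obj G) (inf_le_inf_right W inf_le_right : V i ⊓ V j ⊓ W ≤ V j ⊓ W)) (hs j)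
      simp only [res_res] at hi hj ⊢
      rw [hi, hj]
  refine ⟨σ, section_ext' ((Scheme.Modules.pullback f).obj G) (fun p => V p ⊓ W) (fun p => inf_le_inf_right W (hVA p)) ?_ _ _ fun p => ?_⟩
  · exact fun p hp => Opens.mem_iSup.mpr ⟨⟨p, hp.1⟩, hpV ⟨p, hp.1⟩, hp.2⟩
  · rw [res_res, ← hs p, ← hσ p, res_res]

/-- Inverse images of closed subsets inside `Z` are cofinal on quasi-compact opens. -/
theorem exists_pullCl_ge [IsLocallyNoetherian X'] (hZ : StableUnderSpecialization Z)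
    (T' : ZClos.Cl (f.base ⁻¹' Z)) {A : X'.Opens} (hA : IsCompact (A : Set X')) :
    ∃ T : ZClos.Cl Z, A ⊓ (pullCl f T).U ≤ A ⊓ T'.U := by
  have : CompactSpace A.toScheme := isCompact_iff_compactSpace.mp hA
  have : IsNoetherian A.toScheme := { LocallyOfFiniteType.isLocallyNoetherian A.ι with }
  obtain ⟨S, hSf, hSc, hSi, hS⟩ := NoetherianSpace.exists_finite_set_isClosed_irreducible
    (T'.1.isClosed.preimage A.ι.continuous)
  let η : S → X := fun t => f (A.ι (hSi t.1 t.2).genericPoint)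
  have hgen : ∀ t : S, IsGenericPoint (hSi t.1 t.2).genericPoint t.1 := fun t => by
    have := (hSi t.1 t.2).isGenericPoint_genericPoint_closure
    rwa [(hSc t.1 t.2).closure_eq] at this
  have : Finite S := hSf.to_subtype
  have hηZ : ∀ t : S, η t ∈ Z := fun t =>
    T'.2 (show (hSi t.1 t.2).genericPoint ∈ A.ι ⁻¹' (T'.1 : Set X') from
      hS.symm ▸ ⟨t.1, t.2, (hgen t).mem⟩)
  refine ⟨⟨⟨⋃ t : S, closure {η t}, isClosed_iUnion_of_finite fun _ => isClosed_closure⟩,
    Set.iUnion_subset fun t _ hy => hZ (specializes_iff_mem_closure.mpr hy) (hηZ t)⟩, ?_⟩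
  rintro p ⟨hpA, hp⟩
  refine ⟨hpA, fun hpT' => hp ?_⟩
  obtain ⟨a, rfl⟩ : p ∈ Set.range A.ι := by rwa [Scheme.Opens.range_ι]
  obtain ⟨t, ht, hat⟩ : a ∈ ⋃₀ S := hS ▸ hpT'
  exact Set.mem_iUnion.mpr ⟨⟨t, ht⟩, specializes_iff_mem_closure.mp
    ((((hgen ⟨t, ht⟩).specializes hat).map A.ι.continuous).map f.continuous)⟩

theorem resBij_pullback [IsLocallyNoetherian X] [IsLocallyNoetherian X'] [Flat f] [G.IsQuasicoherent]
    (hZ : StableUnderSpecialization Z) (hG : ResBij Z G) :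
    ResBij (f.base ⁻¹' Z) ((Scheme.Modules.pullback f).obj G) := by
  intro T' A hA
  obtain ⟨T, hT⟩ := exists_pullCl_ge f hZ T' hA
  constructor
  · intro a b hab
    refine (res_bijective_pullback f hG T A).1 ?_
    have h1 := congrArg (QC70.res ((Scheme.Modules.pullback f).obj G) hT) hab
    simp only [res_res] at h1 ⊢
    exact h1
  · intro t
    obtain ⟨s, hs⟩ := (res_bijective_pullback f hG T A).2 (QC70.res ((Scheme.Modules.pullback f).obj G) hT t)
    refine ⟨s, (res_bijective_pullback f hG T (A ⊓ T'.U)).1 ?_⟩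
    have e : A ⊓ T'.U ⊓ (pullCl f T).U ≤ A ⊓ (pullCl f T).U := inf_le_inf_right _ inf_le_left
    have h1 := congrArg (QC70.res ((Scheme.Modules.pullback f).obj G) e) hs
    simp only [res_res] at h1 ⊢
    exact h1

theorem stalk_bijective_pullback {F : X.Modules} [F.IsQuasicoherent] [G.IsQuasicoherent] (u : F ⟶ G) (y : X')
    (h : Function.Bijective (stalkMapM u (f.base y))) :
    Function.Bijective (stalkMapM ((Scheme.Modules.pullback f).map u) y) := by
  obtain ⟨U, V, hU, hV, hyV, -, e⟩ := exists_affine_basis f (Opens.mem_top y)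
  letI := (f.stalkMap y).hom.toAlgebra
  let l := LinearEquiv.ofBijective (stalkLinear u (f.base y)) h
  have key : ⇑(stalkEquiv f hU hV e G hyV) ∘ stalkMapM ((Scheme.Modules.pullback f).map u) y =
      ⇑(l.lTensor (X'.presheaf.stalk y)) ∘ ⇑(stalkEquiv f hU hV e F hyV) :=
    funext fun z => stalkEquiv_natural f u hU hV e hyV z
  refine (Function.Bijective.of_comp_iff' (stalkEquiv f hU hV e G hyV).bijective _).mp ?_
  rw [key]
  exact (l.lTensor _).bijective.comp (stalkEquiv f hU hV e F hyV).bijective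

/-- Flat base change of the Z-closure. -/
theorem nonempty_pullback_H0_iso [IsLocallyNoetherian X] [IsLocallyNoetherian X'] [Flat f]
    (hZ : StableUnderSpecialization Z) (F : X.Modules) [F.IsQuasicoherent] :
    Nonempty ((Scheme.Modules.pullback f).obj ((ZClos.H0 Z).obj F) ≅
      (ZClos.H0 (f.base ⁻¹' Z)).obj ((Scheme.Modules.pullback f).obj F)) := by
  haveI := isQuasicoherent_H0 Z F
  have hG : ZClos.IsZClosed (f.base ⁻¹' Z) ((Scheme.Modules.pullback f).obj ((ZClos.H0 Z).obj F)) :=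
    isZClosed_iff_resBij.mpr (resBij_pullback f hZ (resBij_H0 F))
  obtain ⟨v, hv, -⟩ := existsUnique_fac hG ((Scheme.Modules.pullback f).map (ZClos.rhoApp Z F))
  have := isIso_fac_of_stalk (hZ.preimage f.continuous) hG _
    (fun y hy => stalk_bijective_pullback f (ZClos.rhoApp Z F) y (rhoStalk_bijective_of_not_mem F hy)) v hv
  exact ⟨(asIso v).symm⟩

/-- Finiteness of sections descends along a covering family of flat affine charts. -/
theorem finite_of_charts [IsLocallyNoetherian X] [Flat f] [Surjective f] [QuasiCompact f] (H : X.Modules)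
    [H.IsQuasicoherent]
    (hfin : ∀ V : X'.Opens, IsAffineOpen V → Module.Finite Γ(X', V) Γ((Scheme.Modules.pullback f).obj H, V))
    {U : X.Opens} (hU : IsAffineOpen U) : Module.Finite Γ(X, U) Γ(H, U) := by
  classical
  obtain ⟨s, hs⟩ := (f.isCompact_preimage hU.isCompact).elim_finite_subcover
    (fun V : {V : X'.affineOpens // V.1 ≤ f ⁻¹ᵁ U} => (V.1.1 : Set X')) (fun V => V.1.1.2) (fun p hp => by
      obtain ⟨V, hV, hpV, hle⟩ := exists_isAffineOpen_mem_and_subset (X := X') (x := p) (U := f ⁻¹ᵁ U) hp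
      exact Set.mem_iUnion.mpr ⟨⟨⟨V, hV⟩, hle⟩, hpV⟩)
  have hgen : ∀ V : {V : X'.affineOpens // V.1 ≤ f ⁻¹ᵁ U}, ∃ S : Finset Γ(H, U),
      letI := (f.appLE U V.1.1 V.2).hom.toAlgebra
      Function.Surjective ((Submodule.span Γ(X, U) (S : Set Γ(H, U))).subtype.lTensor Γ(X', V.1.1)) := by
    intro V
    letI := (f.appLE U V.1.1 V.2).hom.toAlgebra
    have := hfin V.1.1 V.1.2
    have hfin' : Module.Finite Γ(X', V.1.1) (Γ(X', V.1.1) ⊗[Γ(X, U)] Γ(H, U)) :=
      Module.Finite.equiv (sectionsPullbackEquiv f H hU V.1.2 V.2)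
    obtain ⟨S₀, hS₀⟩ := hfin'.fg_top
    choose w hw using fun z : Γ(X', V.1.1) ⊗[Γ(X, U)] Γ(H, U) => TensorProduct.exists_finset (R := Γ(X, U)) z
    refine ⟨S₀.biUnion fun z => (w z).image Prod.snd, fun z => ?_⟩
    let N := Submodule.span Γ(X, U) ((S₀.biUnion fun z => (w z).image Prod.snd : Finset Γ(H, U)) : Set Γ(H, U))
    have hle : ⊤ ≤ LinearMap.range (AlgebraTensorModule.lTensor Γ(X', V.1.1) Γ(X', V.1.1) N.subtype) := by
      rw [← hS₀, Submodule.span_le]
      intro z hz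
      rw [SetLike.mem_coe, hw z]
      refine Submodule.sum_mem _ fun p hp => ⟨p.1 ⊗ₜ ⟨p.2, Submodule.subset_span ?_⟩, rfl⟩
      exact Finset.mem_biUnion.mpr ⟨z, hz, Finset.mem_image_of_mem _ hp⟩
    exact hle (Submodule.mem_top (x := z))
  choose S hS using hgen
  let N := Submodule.span Γ(X, U) ((s.biUnion S : Finset Γ(H, U)) : Set Γ(H, U))
  suffices hN : N = ⊤ by exact Module.finite_def.mpr ⟨s.biUnion S, hN⟩
  by_contra hN
  obtain ⟨m, hm⟩ : ∃ m, m ∉ N := by
    by_contra hc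
    push Not at hc
    exact hN (eq_top_iff.mpr fun m _ => hc m)
  have hI : N.colon {m} ≠ ⊤ := fun h => hm (by
    have := Submodule.mem_colon_singleton.mp (h ▸ Submodule.mem_top : (1 : Γ(X, U)) ∈ N.colon {m})
    rwa [one_smul] at this)
  obtain ⟨P, hP, hIP⟩ := Ideal.exists_le_maximal _ hI
  obtain ⟨y, hyU, hy⟩ := Div89.exists_point ⟨U, hU⟩ P
  obtain ⟨x, rfl⟩ := f.surjective y
  obtain ⟨V, hVs, hxV⟩ := Set.mem_iUnion₂.mp (hs (show x ∈ f ⁻¹ᵁ U from hyU))
  letI := (f.appLE U V.1.1 V.2).hom.toAlgebra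
  haveI : Module.Flat Γ(X, U) Γ(X', V.1.1) := flat_appLE f hU V.1.2 V.2
  have hsurj : Function.Surjective (N.subtype.lTensor Γ(X', V.1.1)) := by
    intro z
    obtain ⟨w, rfl⟩ := hS V z
    refine ⟨(Submodule.inclusion (Submodule.span_mono (Finset.coe_subset.mpr
      (Finset.subset_biUnion_of_mem S hVs)))).lTensor _ w, ?_⟩
    rw [← LinearMap.comp_apply, ← LinearMap.lTensor_comp]
    rfl
  have hq : ∀ z, N.mkQ.lTensor Γ(X', V.1.1) z = 0 := fun z => by
    obtain ⟨w, rfl⟩ := hsurj z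
    rw [← LinearMap.comp_apply, ← LinearMap.lTensor_comp, show N.mkQ.comp N.subtype = 0 from by ext; simp]
    simp
  let θ : Γ(X, U) ⧸ N.colon {m} →ₗ[Γ(X, U)] Γ(H, U) ⧸ N :=
    Submodule.liftQ _ (LinearMap.toSpanSingleton Γ(X, U) _ (N.mkQ m)) (fun a ha => by
      rw [LinearMap.mem_ker, LinearMap.toSpanSingleton_apply, ← map_smul, Submodule.mkQ_apply,
        Submodule.Quotient.mk_eq_zero]
      exact Submodule.mem_colon_singleton.mp ha)
  have hθ : Function.Injective θ := by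
    rw [← LinearMap.ker_eq_bot]
    refine Submodule.ker_liftQ_eq_bot _ _ _ fun a ha => ?_
    rw [LinearMap.mem_ker, LinearMap.toSpanSingleton_apply, ← map_smul, Submodule.mkQ_apply,
      Submodule.Quotient.mk_eq_zero] at ha
    exact Submodule.mem_colon_singleton.mpr ha
  have h1 : (1 : Γ(X', V.1.1)) ⊗ₜ[Γ(X, U)] (Submodule.Quotient.mk 1 : Γ(X, U) ⧸ N.colon {m}) = 0 := by
    refine Module.Flat.lTensor_preserves_injective_linearMap θ hθ ?_
    rw [LinearMap.lTensor_tmul, map_zero]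
    rw [show θ (Submodule.Quotient.mk 1) = N.mkQ m from by
      show (LinearMap.toSpanSingleton Γ(X, U) _ (N.mkQ m)) 1 = N.mkQ m
      rw [LinearMap.toSpanSingleton_apply, one_smul]]
    exact hq (1 ⊗ₜ m)
  have h2 := congrArg (Algebra.TensorProduct.quotIdealMapEquivTensorQuot Γ(X', V.1.1) (N.colon {m})).symm h1
  rw [map_zero] at h2
  have h3 : (1 : Γ(X', V.1.1)) ∈ (N.colon {m}).map (algebraMap Γ(X, U) Γ(X', V.1.1)) := by
    rw [← Ideal.Quotient.eq_zero_iff_mem, map_one]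
    exact (map_one (Algebra.TensorProduct.quotIdealMapEquivTensorQuot Γ(X', V.1.1) (N.colon {m})).symm).symm.trans h2
  have h4 : (N.colon {m}).map (algebraMap Γ(X, U) Γ(X', V.1.1)) ≤ Div89.primeAt ⟨V.1.1, V.1.2⟩ x hxV := by
    rw [Ideal.map_le_iff_le_comap]
    refine hIP.trans ?_
    rw [← hy]
    exact (FBase64.AssSheaf.comap_primeAt f ⟨U, hU⟩ ⟨V.1.1, V.1.2⟩ V.2 x hxV).ge
  exact (Div89.primeAt_isPrime ⟨V.1.1, V.1.2⟩ x hxV).ne_top ((Ideal.eq_top_iff_one _).mpr (h4 h3))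

theorem isCoh_of_isCoh_pullback [IsLocallyNoetherian X] [Flat f] [Surjective f] [QuasiCompact f]
    (H : X.Modules) [H.IsQuasicoherent] (h : Coh.IsCoh ((Scheme.Modules.pullback f).obj H)) : Coh.IsCoh H := by
  haveI := h.1
  haveI := h.2
  refine ⟨‹_›, isFiniteType_of_finite_sections H (fun U : X.affineOpens => U.1)
    (IsOpenCover.mk (AlgebraicGeometry.iSup_affineOpens_eq_top X)) (fun U => U.2) fun U => ?_⟩
  exact finite_of_charts f H (fun V hV => finite_sections_of_isFiniteType _ hV) U.2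

theorem isCoh_pullback (H : X.Modules) (h : Coh.IsCoh H) : Coh.IsCoh ((Scheme.Modules.pullback f).obj H) := by
  haveI := h.1
  haveI := h.2
  exact ⟨QCPull72.isQuasicoherent_pullback f H, QCPull72.isFiniteType_pullback f H⟩

theorem isCoh_of_iso {M N : X.Modules} (e : M ≅ N) (h : Coh.IsCoh M) : Coh.IsCoh N :=
  haveI := h.2
  ⟨QC70.isQuasicoherent_of_iso e h.1, isFiniteType_of_epi e.hom⟩

end Groth.Agent.ZClos93
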