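import Groth.Agent.QC70.Stalk
import Mathlib.Algebra.Category.Grp.FilteredColimits
import Mathlib.CategoryTheory.Limits.ConcreteCategory.Basic
import Mathlib.AlgebraicGeometry.Noetherian
import Mathlib.Topology.Sheaves.Skyscraper

/-! Sections of a filtered colimit of modules over a quasi-compact open of a locally Noetherian scheme. -/

set_option autoImplicit false
set_option backward.isDefEq.respectTransparency.types false

noncomputable section

universe u

open CategoryTheory Limits AlgebraicGeometry TopologicalSpace Opposite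
open Groth.Agent.QC70

namespace Groth.Agent.ZClos93

variable {X : Scheme.{u}}

/-- Forgetting from sheaves of modules to abelian sheaves commutes with colimits of any small shape. -/
theorem preservesColimits_toSheaf {C : Type u} [SmallCategory C] {J : GrothendieckTopology C}
    (R : Sheaf J RingCat.{u}) [HasSheafify J AddCommGrpCat.{u}] [J.WEqualsLocallyBijective AddCommGrpCat.{u}]
    (K : Type u) [SmallCategory K] :
    PreservesColimitsOfShape K (SheafOfModules.toSheaf.{u} R) where
  preservesColimit {D} := by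
    let adj := PresheafOfModules.sheafificationAdjunction.{u} (𝟙 R.obj)
    let sh := PresheafOfModules.sheafification.{u} (𝟙 R.obj)
    let G := SheafOfModules.forget R ⋙ PresheafOfModules.restrictScalars (𝟙 R.obj)
    have : PreservesColimitsOfShape K sh := adj.leftAdjoint_preservesColimits.preservesColimitsOfShape
    have : PreservesColimitsOfShape K (sh ⋙ SheafOfModules.toSheaf R) :=
      preservesColimitsOfShape_of_natIso (PresheafOfModules.sheafificationCompToSheaf (𝟙 R.obj)).symm
    let t := colimit.cocone (D ⋙ G)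
    let ht : IsColimit t := colimit.isColimit _
    have h1 : PreservesColimit ((D ⋙ G) ⋙ sh) (SheafOfModules.toSheaf R) :=
      preservesColimit_of_preserves_colimit_cocone (isColimitOfPreserves sh ht)
        (isColimitOfPreserves (sh ⋙ SheafOfModules.toSheaf R) ht)
    have hc : IsIso adj.counit := inferInstance
    exact preservesColimit_of_iso_diagram (K₁ := (D ⋙ G) ⋙ sh) _
      (Functor.associator _ _ _ ≪≫ Functor.isoWhiskerLeft D (asIso adj.counit) ≪≫ D.rightUnitor)

/-- The stalk at a point, as a functor on modules. -/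
def stalkF (x : X) : X.Modules ⥤ AddCommGrpCat.{u} :=
  SheafOfModules.toSheaf X.ringCatSheaf ⋙ TopCat.Sheaf.forget AddCommGrpCat.{u} X.toPresheafedSpace ⋙
    TopCat.Presheaf.stalkFunctor AddCommGrpCat.{u} x

theorem preservesColimits_stalkF (x : X) (K : Type u) [SmallCategory K] :
    PreservesColimitsOfShape K (stalkF x) := by
  have := preservesColimits_toSheaf X.ringCatSheaf K
  have : PreservesColimitsOfShape K
      (TopCat.Sheaf.forget AddCommGrpCat.{u} X.toPresheafedSpace ⋙ TopCat.Presheaf.stalkFunctor AddCommGrpCat.{u} x) :=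
    (Adjunction.ofIsLeftAdjoint _).leftAdjoint_preservesColimits.preservesColimitsOfShape
  exact @Limits.comp_preservesColimitsOfShape _ _ _ _ _ _ _ _ (SheafOfModules.toSheaf X.ringCatSheaf) _ _ this

variable {J : Type u} [SmallCategory J] [IsFiltered J] {D : J ⥤ X.Modules} {c : Cocone D}

theorem exists_stage_germ (hc : IsColimit c) (x : X) (e : c.pt.presheaf.stalk x) :
    ∃ (j : J) (d : (D.obj j).presheaf.stalk x), stalkMapM (c.ι.app j) x d = e :=
  have := preservesColimits_stalkF x J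
  Concrete.isColimit_exists_rep (D ⋙ stalkF x) (isColimitOfPreserves (stalkF x) hc) e

theorem exists_stage_germ_zero (hc : IsColimit c) (x : X) (j : J) (d : (D.obj j).presheaf.stalk x)
    (h : stalkMapM (c.ι.app j) x d = 0) :
    ∃ (k : J) (f : j ⟶ k), stalkMapM (D.map f) x d = 0 := by
  have := preservesColimits_stalkF x J
  obtain ⟨k, f, g, e⟩ := (Concrete.isColimit_rep_eq_iff_exists (D ⋙ stalkF x) (i := j) (j := j)
    (isColimitOfPreserves (stalkF x) hc) d (0 : (D.obj j).presheaf.stalk x)).mp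
      (h.trans (map_zero ((TopCat.Presheaf.stalkFunctor AddCommGrpCat.{u} x).map (c.ι.app j).mapPresheaf).hom).symm)
  exact ⟨k, f, e.trans (map_zero ((TopCat.Presheaf.stalkFunctor AddCommGrpCat.{u} x).map (D.map g).mapPresheaf).hom)⟩

theorem app_comp_apply {M N P : X.Modules} (φ : M ⟶ N) (ψ : N ⟶ P) (U : X.Opens) (s : Γ(M, U)) :
    (φ ≫ ψ).app U s = ψ.app U (φ.app U s) := rfl

omit [IsFiltered J] in
theorem exists_common [IsFiltered J] (j : J) {ι : Type*} [Finite ι] (k : ι → J) (f : ∀ i, j ⟶ k i) :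
    ∃ (m : J) (g : j ⟶ m) (h : ∀ i, k i ⟶ m), ∀ i, f i ≫ h i = g := by
  classical
  cases nonempty_fintype ι
  suffices ∀ t : Finset ι, ∃ (m : J) (g : j ⟶ m), ∀ i ∈ t, ∃ h : k i ⟶ m, f i ≫ h = g by
    obtain ⟨m, g, h⟩ := this Finset.univ
    choose h hh using fun i => h i (Finset.mem_univ i)
    exact ⟨m, g, h, hh⟩
  intro t
  induction t using Finset.induction with
  | empty => exact ⟨j, 𝟙 j, by simp⟩
  | insert a t _ ih =>
    obtain ⟨m, g, h⟩ := ih
    obtain ⟨n, u, v, e⟩ := IsFiltered.span g (f a)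
    refine ⟨n, g ≫ u, fun i hi => ?_⟩
    rcases Finset.mem_insert.mp hi with rfl | hi
    · exact ⟨v, e.symm⟩
    · obtain ⟨h', hh'⟩ := h i hi
      exact ⟨h' ≫ u, by rw [reassoc_of% hh']⟩

variable [IsLocallyNoetherian X]

theorem isCompact_of_le {U V : X.Opens} (hV : IsCompact (V : Set X)) (h : U ≤ V) : IsCompact (U : Set X) := by
  have : CompactSpace V.toScheme := isCompact_iff_compactSpace.mp hV
  have : IsNoetherian V.toScheme :=
    { LocallyOfFiniteType.isLocallyNoetherian (Scheme.Opens.ι V) with }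
  have h1 : IsCompact ((Scheme.Opens.ι V) ⁻¹' (U : Set X)) := NoetherianSpace.isCompact _
  have h2 := h1.image (Scheme.Opens.ι V).continuous
  rwa [Set.image_preimage_eq_of_subset (by rw [Scheme.Opens.range_ι]; exact h)] at h2

omit [IsLocallyNoetherian X] in
/-- A section over a quasi-compact open which dies in the colimit dies at a stage. -/
theorem exists_stage_zero (hc : IsColimit c) {V : X.Opens} (hV : IsCompact (V : Set X)) {j : J}
    (s : Γ(D.obj j, V)) (h : (c.ι.app j).app V s = 0) :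
    ∃ (k : J) (f : j ⟶ k), (D.map f).app V s = 0 := by
  classical
  have hloc : ∀ x : (V : Set X), ∃ (k : J) (f : j ⟶ k) (W : X.Opens) (hW : W ≤ V), x.1 ∈ W ∧
      QC70.res (D.obj k) hW ((D.map f).app V s) = 0 := by
    intro x
    obtain ⟨k, f, hk⟩ := exists_stage_germ_zero hc x.1 j (germM (D.obj j) V x.1 x.2 s) (by
      rw [stalkMapM_germ, h]; exact germM_zero _)
    rw [stalkMapM_germ] at hk
    obtain ⟨W, hW, hxW, h0⟩ := germM_eq_zero hk
    exact ⟨k, f, W, hW, hxW, h0⟩
  choose k f W hW hxW h0 using hloc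
  obtain ⟨t, ht⟩ := hV.elim_finite_subcover (fun x => (W x : Set X)) (fun x => (W x).2)
    fun x hx => Set.mem_iUnion.mpr ⟨⟨x, hx⟩, hxW ⟨x, hx⟩⟩
  obtain ⟨m, g, φ, hφ⟩ := exists_common j (fun x : t => k x.1) fun x => f x.1
  refine ⟨m, g, section_ext' (D.obj m) (fun x : t => W x.1) (fun x => hW x.1) ?_ _ _ fun x => ?_⟩
  · intro p hp
    obtain ⟨x, hx, hpx⟩ := Set.mem_iUnion₂.mp (ht hp)
    exact Opens.mem_iSup.mpr ⟨⟨x, hx⟩, hpx⟩
  · rw [res_zero, ← hφ x, Functor.map_comp, app_comp_apply, ← app_res, h0 x.1, map_zero]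

/-- A section of the colimit over a quasi-compact open comes from a stage. -/
theorem exists_stage_section (hc : IsColimit c) {V : X.Opens} (hV : IsCompact (V : Set X))
    (σ : Γ(c.pt, V)) : ∃ (j : J) (s : Γ(D.obj j, V)), (c.ι.app j).app V s = σ := by
  classical
  have hloc : ∀ x : (V : Set X), ∃ (k : J) (W : X.Opens) (hW : W ≤ V) (s : Γ(D.obj k, W)), x.1 ∈ W ∧
      (c.ι.app k).app W s = QC70.res c.pt hW σ := by
    intro x
    obtain ⟨k, d, hd⟩ := exists_stage_germ hc x.1 (germM c.pt V x.1 x.2 σ)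
    obtain ⟨W, hxW, s, rfl⟩ := germM_exist d
    rw [stalkMapM_germ] at hd
    obtain ⟨W', hxW', i₁, i₂, e⟩ := TopCat.Presheaf.germ_eq c.pt.presheaf x.1 hxW x.2 _ σ hd
    exact ⟨k, W', i₂.le, QC70.res _ i₁.le s, hxW', by rw [app_res]; exact e⟩
  choose k W hW s hxW hs using hloc
  obtain ⟨t, ht⟩ := hV.elim_finite_subcover (fun x => (W x : Set X)) (fun x => (W x).2)
    fun x hx => Set.mem_iUnion.mpr ⟨⟨x, hx⟩, hxW ⟨x, hx⟩⟩
  obtain ⟨m, hm⟩ := IsFiltered.sup_objs_exists (t.image k)
  let φ : ∀ x : t, k x.1 ⟶ m := fun x => (hm (Finset.mem_image_of_mem k x.2)).some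
  obtain ⟨u, hu⟩ : ∃ u : ∀ x : t, Γ(D.obj m, W x.1),
      ∀ x, (c.ι.app m).app _ (u x) = QC70.res c.pt (hW x.1) σ :=
    ⟨fun x => (D.map (φ x)).app _ (s x.1), fun x => by rw [← hs x.1, ← app_comp_apply, c.w]⟩
  have hpair : ∀ p : t × t, ∃ (n : J) (f : m ⟶ n),
      (D.map f).app (W p.1.1 ⊓ W p.2.1) (QC70.res _ inf_le_left (u p.1) - QC70.res _ inf_le_right (u p.2)) = 0 := by
    intro p
    refine exists_stage_zero hc (isCompact_of_le hV (inf_le_left.trans (hW p.1.1))) _ ?_
    rw [map_sub, app_res, app_res, hu, hu]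
    erw [res_res, res_res]
    exact sub_self _
  choose n f hf using hpair
  obtain ⟨m', g, ψ, hψ⟩ := exists_common m n f
  obtain ⟨s', hs'⟩ := exists_glue (D.obj m') (fun x : t => W x.1) (fun x => hW x.1)
    (fun p hp => by
      obtain ⟨x, hx, hpx⟩ := Set.mem_iUnion₂.mp (ht hp)
      exact Opens.mem_iSup.mpr ⟨⟨x, hx⟩, hpx⟩)
    (fun x => (D.map g).app _ (u x)) (fun a b => by
      rw [← app_res, ← app_res, ← sub_eq_zero, ← map_sub, ← hψ (a, b), Functor.map_comp, app_comp_apply,
        hf, map_zero])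
  refine ⟨m', s', section_ext' c.pt (fun x : t => W x.1) (fun x => hW x.1) ?_ _ _ fun x => ?_⟩
  · intro p hp
    obtain ⟨x, hx, hpx⟩ := Set.mem_iUnion₂.mp (ht hp)
    exact Opens.mem_iSup.mpr ⟨⟨x, hx⟩, hpx⟩
  · rw [← app_res, hs' x, ← app_comp_apply, c.w, hu]

end Groth.Agent.ZClos93
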