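import Groth.Agent.S2111
import Groth.Agent.Cyc90.DimFormula
import Groth.Prelude.Def_EGA4b
import Mathlib.RingTheory.Localization.Integral
import Mathlib.RingTheory.IntegralClosure.IntegrallyClosed

/-! The height-one hull of a universally catenary domain with finite integral closure is finite. -/

set_option autoImplicit false

universe u

namespace Groth.Agent.ZClos93.Hull

variable (A : Type u) [CommRing A] [IsDomain A]

/-- The height-one hull as a subalgebra of the fraction field. -/
def hull : Subalgebra A (FractionRing A) where
  carrier := EGA4.heightOneHull A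
  mul_mem' {x y} hx hy p _ hp := by
    obtain ⟨s, hs, a, ha⟩ := hx p hp
    obtain ⟨t, ht, b, hb⟩ := hy p hp
    refine ⟨s * t, fun h => ((Ideal.IsPrime.mem_or_mem inferInstance h).elim hs ht), a * b, ?_⟩
    rw [map_mul, map_mul, ha, hb]
    ring
  add_mem' {x y} hx hy p _ hp := by
    obtain ⟨s, hs, a, ha⟩ := hx p hp
    obtain ⟨t, ht, b, hb⟩ := hy p hp
    refine ⟨s * t, fun h => ((Ideal.IsPrime.mem_or_mem inferInstance h).elim hs ht), a * t + s * b, ?_⟩
    rw [map_add, map_mul, map_mul, map_mul, ha, hb]
    ring
  algebraMap_mem' a p hp' _ :=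
    ⟨1, fun h => hp'.ne_top ((Ideal.eq_top_iff_one _).mpr h), a, by rw [map_one, one_mul]⟩

theorem mem_hull_iff (x : FractionRing A) : x ∈ hull A ↔ x ∈ EGA4.heightOneHull A := Iff.rfl

theorem heightOneHullFinite_iff : EGA4.HeightOneHullFinite A ↔ Module.Finite A (hull A) := by
  refine ⟨fun ⟨B, hB, hf⟩ => ?_, fun h => ⟨hull A, rfl, h⟩⟩
  rwa [show B = hull A from SetLike.coe_injective hB] at hf

theorem heightOneHullFinite_of_universallyCatenary [IsNoetherianRing A] (hA : CAlg.IsUniversallyCatenary A)
    (hint : Module.Finite A (integralClosure A (FractionRing A))) : EGA4.HeightOneHullFinite A := by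
  let K := FractionRing A
  let B := integralClosure A K
  have : Algebra.IsAlgebraic A K := IsLocalization.isAlgebraic K (nonZeroDivisors A)
  have : IsFractionRing B K := integralClosure.isFractionRing_of_algebraic (fun a ha => by
    rwa [IsFractionRing.to_map_eq_zero_iff] at ha)
  have : IsIntegrallyClosed B := integralClosure.isIntegrallyClosedOfFiniteExtension K
  have : IsNoetherianRing B := IsNoetherianRing.of_finite A B
  have hle : Subalgebra.toSubmodule (hull A) ≤ Subalgebra.toSubmodule B := by
    intro x (hx : x ∈ EGA4.heightOneHull A)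
    let e : FractionRing B ≃ₐ[B] K := FractionRing.algEquiv B K
    have key : e.symm x ∈ Set.range (algebraMap B (FractionRing B)) := by
      refine S2111.result (e.symm x) fun P _ hP => ?_
      let p := P.comap (algebraMap A B)
      have : P.LiesOver p := ⟨rfl⟩
      have hint' : (algebraMap A B).IsIntegral :=
        fun b => (Algebra.IsIntegral.isIntegral (R := A) b)
      have : Algebra.IsIntegral A B := inferInstance
      have : Algebra.IsAlgebraic A B := Algebra.IsIntegral.isAlgebraic
      have h1 := Cyc90.height_add_trdeg_eq A hA B p P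
      have : Algebra.IsIntegral (A ⧸ p) (B ⧸ P) := Ideal.Quotient.algebra_isIntegral_of_liesOver P p
      have : Algebra.IsAlgebraic (A ⧸ p) (B ⧸ P) := Algebra.IsIntegral.isAlgebraic
      rw [trdeg_eq_zero, trdeg_eq_zero, add_zero, add_zero] at h1
      have hp : p.height = 1 := by rw [← Cardinal.ofENat_injective h1, hP]
      obtain ⟨s, hs, a, ha⟩ := hx p hp
      refine ⟨IsLocalization.mk' _ (algebraMap A B a) (⟨algebraMap A B s, hs⟩ : P.primeCompl), ?_⟩
      apply e.injective
      rw [e.apply_symm_apply]
      have hne : algebraMap A K s ≠ 0 := by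
        rw [ne_eq, IsFractionRing.to_map_eq_zero_iff]
        rintro rfl
        exact hs (zero_mem _)
      refine mul_left_cancel₀ hne ?_
      rw [← ha]
      have h2 := congrArg (algebraMap (Localization.AtPrime P) (FractionRing B))
        (IsLocalization.mk'_spec' (Localization.AtPrime P) (algebraMap A B a)
          (⟨algebraMap A B s, hs⟩ : P.primeCompl))
      rw [map_mul, ← IsScalarTower.algebraMap_apply B (Localization.AtPrime P) (FractionRing B),
        ← IsScalarTower.algebraMap_apply B (Localization.AtPrime P) (FractionRing B)] at h2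
      have h3 := congrArg e h2
      rw [map_mul, e.commutes, e.commutes] at h3
      exact h3
    obtain ⟨b, hb⟩ := key
    have : x = (b : K) := by
      rw [← e.apply_symm_apply x, ← hb, e.commutes]
      rfl
    exact this ▸ b.2
  rw [heightOneHullFinite_iff]
  have : IsNoetherian A B := isNoetherian_of_isNoetherianRing_of_finite A B
  exact Module.Finite.of_injective (Submodule.inclusion hle) (Submodule.inclusion_injective hle)

end Groth.Agent.ZClos93.Hull
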