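import Groth.Agent.ZClos93.Basic
import Groth.Agent.SpecSp50.Basic

/-! Elementary properties of Z-pure and Z-closed modules. -/

set_option autoImplicit false
set_option backward.isDefEq.respectTransparency false

noncomputable section

universe u

open CategoryTheory Limits AlgebraicGeometry TopologicalSpace Opposite Topology
open Groth.Agent.QC70

namespace Groth.Agent.ZClos93

variable {X : Scheme.{u}} {Z : Set X} {F G : X.Modules}

theorem closure_inter_subset_of_stable [IsLocallyNoetherian X] (hZ : StableUnderSpecialization Z)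
    {T : Set X} (hT : IsClosed T) (V : X.Opens) (h : T ∩ V ⊆ Z) : closure (T ∩ (V : Set X)) ⊆ Z := by
  intro x hx
  obtain ⟨_, ⟨W₀, hW₀, rfl⟩, hxW, -⟩ :=
    X.isBasis_affineOpens.exists_subset_of_mem_open (Set.mem_univ x) isOpen_univ
  let W : X.Opens := W₀
  have hW : IsAffineOpen W := hW₀
  have : IsAffine W.toScheme := hW
  have : IsNoetherian W.toScheme := { LocallyOfFiniteType.isLocallyNoetherian W.ι with }
  have : SpectralSpace W.toScheme := { }
  let E : Set W.toScheme := W.ι ⁻¹' (T ∩ V)
  have hE : IsClosed[constructibleTopology W.toScheme] E :=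
    @IsClosed.inter _ (W.ι ⁻¹' T) (W.ι ⁻¹' (V : Set X)) (constructibleTopology W.toScheme)
      (SpecSp50.isClosed_cons_of_isClosed (hT.preimage W.ι.continuous))
      (SpecSp50.isClosed_cons_of_qc (V.2.preimage W.ι.continuous) (NoetherianSpace.isCompact _))
  obtain ⟨x', rfl⟩ : x ∈ Set.range W.ι := by rwa [Scheme.Opens.range_ι]
  have hx' : x' ∈ closure E :=
    W.ι.isOpenEmbedding.isOpenMap.preimage_closure_subset_closure_preimage hx
  obtain ⟨e, he, hex⟩ := SpecSp50.exists_specializes_of_mem_closure hE hx'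
  exact hZ (hex.map W.ι.continuous) (h he)

/-- Restriction to an equal open. -/
theorem res_bijective_of_eq (M : X.Modules) {A B : X.Opens} (h : A ≤ B) (e : A = B) :
    Function.Bijective (QC70.res M h) := by
  subst e
  rw [show QC70.res M h = id from funext fun s => congr($(M.presheaf.map_id _) s)]
  exact Function.bijective_id

theorem res_comp_eq (M : X.Modules) {A B C : X.Opens} (h₁ : B ≤ A) (h₂ : C ≤ B) :
    QC70.res M h₂ ∘ QC70.res M h₁ = QC70.res M (h₂.trans h₁) :=
  funext fun s => res_res h₁ h₂ s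

theorem resInj_apply (h : ResInj Z F) (T : ZClos.Cl Z) {A V : X.Opens} (hV : IsCompact (V : Set X))
    (hA : A ≤ V) (hA' : V ⊓ T.U ≤ A) : Function.Injective (QC70.res F hA) := fun a b e =>
  h T V hV (by rw [← res_res hA hA', e, res_res])

theorem toDiagram_app (T : ZClos.Cl Z) (V : X.Opens) :
    ⇑((ZClos.toDiagram Z F T).app V) = QC70.res F (T.U.ι.image_preimage_le V) := rfl

theorem resInj_iff_mono_toDiagram : ResInj Z F ↔ ∀ T : ZClos.Cl Z, Mono (ZClos.toDiagram Z F T) := by
  refine ⟨fun h T => mono_of_compact _ fun V hV => ?_, fun h T V _ a b e => ?_⟩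
  · rw [toDiagram_app]
    exact resInj_apply h T hV _ (im_eq T V).ge
  · have := h T
    refine app_injective_of_mono (ZClos.toDiagram Z F T) V (a₁ := a) (a₂ := b) ?_
    rw [toDiagram_app, ← res_res inf_le_left (im_eq T V).le, e, res_res]

theorem resBij_iff_isIso_toDiagram : ResBij Z F ↔ ∀ T : ZClos.Cl Z, IsIso (ZClos.toDiagram Z F T) := by
  refine ⟨fun h T => isIso_of_compact _ fun V hV => ?_, fun h T V _ => ?_⟩
  · rw [toDiagram_app, ← res_comp_eq F inf_le_left (im_eq T V).le]
    exact (res_bijective_of_eq F _ (im_eq T V)).comp (h T V hV)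
  · have := h T
    have h1 := app_bijective_of_isIso (ZClos.toDiagram Z F T) V
    rw [toDiagram_app] at h1
    rw [← res_comp_eq F (T.U.ι.image_preimage_le V) (im_eq T V).ge]
    exact (res_bijective_of_eq F _ (im_eq T V).symm).comp h1

theorem isZPure_mono_set {Z' : Set X} (h : Z' ⊆ Z) (hF : ResInj Z F) : ResInj Z' F :=
  fun T V hV => hF ⟨T.1, T.2.trans h⟩ V hV

theorem isZClosed_mono_set {Z' : Set X} (h : Z' ⊆ Z) (hF : ResBij Z F) : ResBij Z' F :=
  fun T V hV => hF ⟨T.1, T.2.trans h⟩ V hV

end Groth.Agent.ZClos93
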