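import Groth.Agent.ZClos93.Props

/-! Z-pure and Z-closed modules are local on the scheme. -/

set_option autoImplicit false
set_option backward.isDefEq.respectTransparency false

noncomputable section

universe u

open CategoryTheory Limits AlgebraicGeometry TopologicalSpace Opposite Topology
open Groth.Agent.QC70

namespace Groth.Agent.ZClos93

variable {X : Scheme.{u}} {Z : Set X} {F : X.Modules} (V : X.Opens)

abbrev resF (V : X.Opens) (F : X.Modules) : V.toScheme.Modules :=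
  (Scheme.Modules.restrictFunctor V.ι).obj F

theorem res_resF {W W' : V.toScheme.Opens} (h : W' ≤ W) :
    QC70.res (resF V F) h = QC70.res F (V.ι.image_mono h) := rfl

theorem isCompact_image {W : V.toScheme.Opens} (h : IsCompact (W : Set V.toScheme)) :
    IsCompact ((V.ι ''ᵁ W : X.Opens) : Set X) := h.image V.ι.continuous

theorem image_preimage_of_le {W : X.Opens} (h : W ≤ V) : V.ι ''ᵁ V.ι ⁻¹ᵁ W = W := by
  rw [ZClos.ι_image_preimage, inf_eq_right.mpr h]

theorem isCompact_preimage {W : X.Opens} (h : W ≤ V) (hc : IsCompact (W : Set X)) :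
    IsCompact ((V.ι ⁻¹ᵁ W : V.toScheme.Opens) : Set V.toScheme) := by
  rw [V.ι.isOpenEmbedding.isInducing.isCompact_iff]
  change IsCompact ((V.ι ''ᵁ V.ι ⁻¹ᵁ W : X.Opens) : Set X)
  rwa [image_preimage_of_le V h]

/-- The trace on `V` of a member of the index. -/
def restrictCl (T : ZClos.Cl Z) : ZClos.Cl (V.ι.base ⁻¹' Z) :=
  ⟨⟨V.ι.base ⁻¹' T.1, T.1.isClosed.preimage V.ι.continuous⟩, Set.preimage_mono T.2⟩

theorem restrictCl_U (T : ZClos.Cl Z) : (restrictCl V T).U = V.ι ⁻¹ᵁ T.U := rfl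

theorem image_inf_preimage (W : V.toScheme.Opens) (A : X.Opens) :
    V.ι ''ᵁ (W ⊓ V.ι ⁻¹ᵁ A) = V.ι ''ᵁ W ⊓ A :=
  SetLike.coe_injective (Set.image_inter_preimage _ _ _)

theorem exists_restrictCl_eq [IsLocallyNoetherian X] (hZ : StableUnderSpecialization Z)
    (T' : ZClos.Cl (V.ι.base ⁻¹' Z)) : ∃ T : ZClos.Cl Z, restrictCl V T = T' := by
  obtain ⟨C, hC, hCT⟩ := V.ι.isOpenEmbedding.isInducing.isClosed_iff.mp T'.1.isClosed
  have h : C ∩ (V : Set X) ⊆ Z := by
    intro x ⟨hxC, hxV⟩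
    obtain ⟨v, rfl⟩ : x ∈ Set.range V.ι := by rwa [Scheme.Opens.range_ι]
    exact T'.2 (show v ∈ (T'.1 : Set V.toScheme) from hCT ▸ hxC)
  refine ⟨⟨⟨closure (C ∩ (V : Set X)), isClosed_closure⟩, closure_inter_subset_of_stable hZ hC V h⟩,
    Subtype.ext (Closeds.ext ?_)⟩
  refine Set.Subset.antisymm (fun v hv => ?_) fun v hv => subset_closure ⟨?_, ?_⟩
  · rw [← hCT]
    exact closure_minimal Set.inter_subset_left hC hv
  · rw [← hCT] at hv
    exact hv
  · rw [← Scheme.Opens.range_ι V]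
    exact ⟨v, rfl⟩

theorem resInj_resF [IsLocallyNoetherian X] (hZ : StableUnderSpecialization Z) (hF : ResInj Z F) :
    ResInj (V.ι.base ⁻¹' Z) (resF V F) := by
  intro T' W hW
  obtain ⟨T, rfl⟩ := exists_restrictCl_eq V hZ T'
  rw [res_resF]
  exact resInj_apply hF T (isCompact_image V hW) _ (image_inf_preimage V W T.U).ge

theorem resBij_resF [IsLocallyNoetherian X] (hZ : StableUnderSpecialization Z) (hF : ResBij Z F) :
    ResBij (V.ι.base ⁻¹' Z) (resF V F) := by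
  intro T' W hW
  obtain ⟨T, rfl⟩ := exists_restrictCl_eq V hZ T'
  rw [res_resF]
  have e : V.ι ''ᵁ W ⊓ T.U = V.ι ''ᵁ (W ⊓ (restrictCl V T).U) := (image_inf_preimage V W T.U).symm
  rw [← res_comp_eq F (inf_le_left : V.ι ''ᵁ W ⊓ T.U ≤ _) e.ge]
  have h1 := res_bijective_of_eq F e.ge e.symm
  have h2 := hF T _ (isCompact_image V hW)
  exact h1.comp h2

variable {ι : Type u} {U : ι → X.Opens}

theorem exists_small_nhd (hU : iSup U = ⊤) {W : X.Opens} {p : X} (hp : p ∈ W) :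
    ∃ (A : X.Opens) (i : ι), IsCompact (A : Set X) ∧ p ∈ A ∧ A ≤ W ∧ A ≤ U i := by
  obtain ⟨i, hi⟩ := Opens.mem_iSup.mp (hU.ge (Opens.mem_top p))
  obtain ⟨A, hA, hpA, hAle⟩ := exists_compact_nhd (W := W ⊓ U i) ⟨hp, hi⟩
  exact ⟨A, i, hA, hpA, hAle.trans inf_le_left, hAle.trans inf_le_right⟩

theorem image_restrictCl {A : X.Opens} (h : A ≤ V) (T : ZClos.Cl Z) :
    A ⊓ T.U = V.ι ''ᵁ (V.ι ⁻¹ᵁ A ⊓ (restrictCl V T).U) := by
  rw [restrictCl_U, image_inf_preimage, image_preimage_of_le V h]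

theorem res_small_eq {A : X.Opens} (h : A ≤ V) (T : ZClos.Cl Z) :
    QC70.res F (inf_le_left : A ⊓ T.U ≤ A) =
      QC70.res F (image_restrictCl V h T).le ∘
        QC70.res (resF V F) (inf_le_left : V.ι ⁻¹ᵁ A ⊓ (restrictCl V T).U ≤ V.ι ⁻¹ᵁ A) ∘
        QC70.res F (image_preimage_of_le V h).le := by
  rw [res_resF, res_comp_eq, res_comp_eq]

theorem res_small_injective {A : X.Opens} (h : A ≤ V) (T : ZClos.Cl Z)
    (h' : ResInj (V.ι.base ⁻¹' Z) (resF V F)) (hc : IsCompact (A : Set X)) :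
    Function.Injective (QC70.res F (inf_le_left : A ⊓ T.U ≤ A)) := by
  rw [res_small_eq V h T]
  have h1 := h' (restrictCl V T) (V.ι ⁻¹ᵁ A) (isCompact_preimage V h hc)
  have h2 := res_bijective_of_eq F (image_restrictCl V h T).le (image_restrictCl V h T)
  have h3 := res_bijective_of_eq F (image_preimage_of_le V h).le (image_preimage_of_le V h)
  exact h2.1.comp (h1.comp h3.1)

theorem res_small_bijective {A : X.Opens} (h : A ≤ V) (T : ZClos.Cl Z)
    (h' : ResBij (V.ι.base ⁻¹' Z) (resF V F)) (hc : IsCompact (A : Set X)) :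
    Function.Bijective (QC70.res F (inf_le_left : A ⊓ T.U ≤ A)) := by
  rw [res_small_eq V h T]
  have h1 := h' (restrictCl V T) (V.ι ⁻¹ᵁ A) (isCompact_preimage V h hc)
  have h2 := res_bijective_of_eq F (image_restrictCl V h T).le (image_restrictCl V h T)
  have h3 := res_bijective_of_eq F (image_preimage_of_le V h).le (image_preimage_of_le V h)
  exact h2.comp (h1.comp h3)

theorem resInj_of_cover (hU : iSup U = ⊤) (h : ∀ i, ResInj ((U i).ι.base ⁻¹' Z) (resF (U i) F)) :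
    ResInj Z F := by
  intro T W _ a b e
  refine section_ext F a b fun p hp => ?_
  obtain ⟨A, i, hA, hpA, hAW, hAU⟩ := exists_small_nhd hU hp
  refine ⟨A, hAW, hpA, ?_⟩
  have hinj := res_small_injective (U i) hAU T (h i) hA
  refine hinj ?_
  have h1 := congrArg (QC70.res F (inf_le_inf_right T.U hAW : A ⊓ T.U ≤ W ⊓ T.U)) e
  simp only [res_res] at h1 ⊢
  exact h1

theorem resBij_of_cover [IsLocallyNoetherian X] (hU : iSup U = ⊤)
    (h : ∀ i, ResBij ((U i).ι.base ⁻¹' Z) (resF (U i) F)) : ResBij Z F := by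
  have hinj : ResInj Z F := resInj_of_cover hU fun i T W hW => (h i T W hW).1
  intro T W hW
  refine ⟨hinj T W hW, fun t => ?_⟩
  have hloc : ∀ p : (W : Set X), ∃ (A : X.Opens) (hAW : A ≤ W), p.1 ∈ A ∧ IsCompact (A : Set X) ∧
      ∃ s : Γ(F, A), QC70.res F (inf_le_left : A ⊓ T.U ≤ A) s = QC70.res F (inf_le_inf_right T.U hAW) t := by
    intro p
    obtain ⟨A, i, hA, hpA, hAW, hAU⟩ := exists_small_nhd hU p.2
    refine ⟨A, hAW, hpA, hA, ?_⟩
    have hb := res_small_bijective (U i) hAU T (h i) hA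
    exact hb.2 _
  choose A hAW hpA hA s hs using hloc
  obtain ⟨σ, hσ⟩ := exists_glue F A hAW (fun p hp => Opens.mem_iSup.mpr ⟨⟨p, hp⟩, hpA ⟨p, hp⟩⟩) s
    fun i j => by
      refine hinj T _ (isCompact_of_le (hA i) inf_le_left) ?_
      have hi := congrArg (QC70.res F (inf_le_inf_right T.U inf_le_left : A i ⊓ A j ⊓ T.U ≤ A i ⊓ T.U)) (hs i)
      have hj := congrArg (QC70.res F (inf_le_inf_right T.U inf_le_right : A i ⊓ A j ⊓ T.U ≤ A j ⊓ T.U)) (hs j)
      simp only [res_res] at hi hj ⊢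
      rw [hi, hj]
  refine ⟨σ, section_ext' F (fun p => A p ⊓ T.U) (fun p => inf_le_inf_right _ (hAW p)) ?_ _ _ fun p => ?_⟩
  · exact fun p hp => Opens.mem_iSup.mpr ⟨⟨p, hp.1⟩, hpA ⟨p, hp.1⟩, hp.2⟩
  · rw [res_res, ← hs p, ← hσ p, res_res]

end Groth.Agent.ZClos93
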