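import Groth.Agent.ZClos93.Props

/-! The Z-closure is Z-closed and universal among maps to Z-closed modules. -/

set_option autoImplicit false
set_option backward.isDefEq.respectTransparency false

noncomputable section

universe u

open CategoryTheory Limits AlgebraicGeometry TopologicalSpace Opposite Topology
open Groth.Agent.QC70

namespace Groth.Agent.ZClos93

variable {X : Scheme.{u}} {Z : Set X} {F G : X.Modules}

theorem rhoStalk_bijective_of_not_mem [IsLocallyNoetherian X] (F : X.Modules) {x : X} (hx : x ∉ Z) :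
    Function.Bijective (stalkMapM (ZClos.rhoApp Z F) x) := by
  have hxT : ∀ T : ZClos.Cl Z, x ∈ T.U := fun T h => hx (T.2 h)
  constructor
  · refine (injective_iff_map_eq_zero ((TopCat.Presheaf.stalkFunctor _ x).map
      (ZClos.rhoApp Z F).mapPresheaf).hom).mpr fun e he => ?_
    obtain ⟨W, hxW, s, rfl⟩ := germM_exist e
    have he' := (stalkMapM_germ (ZClos.rhoApp Z F) hxW s).symm.trans he
    obtain ⟨W', hW, hxW', h0⟩ := germM_eq_zero he'
    obtain ⟨A, hA, hxA, hAW⟩ := exists_compact_nhd hxW'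
    have h1 := congrArg (QC70.res _ hAW) h0
    rw [res_res, res_zero, ← app_res, rho_app_eq ⊥] at h1
    obtain ⟨T, hT, h2⟩ := exists_stage_of_γ_eq_zero hA h1
    rw [res_res, res_res] at h2
    rw [← germM_res ((inf_le_left : A ⊓ T.U ≤ A).trans (hAW.trans hW)) ⟨hxA, hxT T⟩ s]
    exact (congrArg _ h2).trans (germM_zero _)
  · intro e
    obtain ⟨W, hxW, σ₀, rfl⟩ := germM_exist e
    obtain ⟨A, hA, hxA, hAW⟩ := exists_compact_nhd hxW
    obtain ⟨T, t, ht⟩ := exists_γ hA (QC70.res _ hAW σ₀)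
    have hx' : x ∈ A ⊓ T.U := ⟨hxA, hxT T⟩
    refine ⟨germM F _ x hx' t, ?_⟩
    rw [stalkMapM_germ, rho_app_eq T,
      ← germM_res ((inf_le_left : A ⊓ T.U ≤ A).trans hAW) hx' σ₀, ← res_res hAW inf_le_left, ← ht, res_γ]

theorem le_U_sup (T T' : ZClos.Cl Z) (V : X.Opens) : V ⊓ (T ⊔ T').U ≤ V ⊓ T.U ⊓ T'.U :=
  le_inf (inf_le_inf_left V (ZClos.Cl.U_anti le_sup_left)) (inf_le_right.trans (ZClos.Cl.U_anti le_sup_right))

theorem resBij_H0 [IsLocallyNoetherian X] (F : X.Modules) : ResBij Z ((ZClos.H0 Z).obj F) := by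
  intro T V hV
  have hc : IsCompact ((V ⊓ T.U : X.Opens) : Set X) := isCompact_of_le hV inf_le_left
  refine ⟨fun a b e => ?_, fun τ => ?_⟩
  · obtain ⟨T₁, s, hs⟩ := exists_γ hV (a - b)
    have h1 : QC70.res _ (inf_le_left : V ⊓ T.U ≤ V) (γ T₁ V s) = 0 := by
      rw [hs, res_sub, sub_eq_zero]
      exact e
    rw [res_γ] at h1
    obtain ⟨T₂, hT₂, h2⟩ := exists_stage_of_γ_eq_zero hc h1
    rw [← sub_eq_zero, ← hs, ← γ_res_stage (hT₂.trans le_sup_right : T₁ ≤ T ⊔ T₂) V s]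
    have h3 := congrArg (QC70.res F (le_U_sup T T₂ V)) h2
    simp only [res_res, res_zero] at h3
    rw [h3, γ_zero]
  · obtain ⟨T₁, s, hs⟩ := exists_γ hc τ
    refine ⟨γ (T ⊔ T₁) V (QC70.res F (le_U_sup T T₁ V) s), ?_⟩
    rw [res_γ, ← hs, ← γ_res_stage (le_sup_right : T₁ ≤ T ⊔ T₁) _ s, res_res]

theorem isZero_of_sections [IsLocallyNoetherian X] (M : X.Modules)
    (h : ∀ (V : X.Opens), IsCompact (V : Set X) → ∀ s : Γ(M, V), s = 0) : IsZero M := by
  rw [IsZero.iff_id_eq_zero]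
  ext U s
  exact section_ext_compact M _ _ fun V hV hc => (h V hc _).trans (h V hc _).symm

/-- A section of a Z-pure module vanishing at all points off `Z` vanishes. -/
theorem eq_zero_of_germ_eq_zero [IsLocallyNoetherian X] (hZ : StableUnderSpecialization Z)
    (hF : ResInj Z F) {V : X.Opens} (hV : IsCompact (V : Set X)) (s : Γ(F, V))
    (h : ∀ (x : X) (hx : x ∈ V), x ∉ Z → germM F V x hx s = 0) : s = 0 := by
  let S : Set X.Opens := {B | ∃ hB : B ≤ V, QC70.res F hB s = 0}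
  have hsub : ((sSup S : X.Opens) : Set X)ᶜ ∩ (V : Set X) ⊆ Z := by
    rintro x ⟨hx, hxV⟩
    by_contra hxZ
    obtain ⟨W, hW, hxW, h0⟩ := germM_eq_zero (h x hxV hxZ)
    exact hx (Opens.mem_sSup.mpr ⟨W, ⟨hW, h0⟩, hxW⟩)
  let T : ZClos.Cl Z := ⟨⟨_, isClosed_closure⟩,
    closure_inter_subset_of_stable hZ (sSup S).2.isClosed_compl V hsub⟩
  refine hF T V hV ?_
  rw [res_zero]
  refine section_ext F _ _ fun p hp => ?_
  obtain ⟨B, ⟨hB, h0⟩, hpB⟩ : ∃ B ∈ S, p ∈ B :=
    Opens.mem_sSup.mp (by_contra fun hc => hp.2 (subset_closure ⟨hc, hp.1⟩))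
  refine ⟨V ⊓ T.U ⊓ B, inf_le_left, ⟨hp, hpB⟩, ?_⟩
  have h1 := congrArg (QC70.res F (inf_le_right : V ⊓ T.U ⊓ B ≤ B)) h0
  simp only [res_res, res_zero] at h1 ⊢
  exact h1

theorem isZero_H0_iff [IsLocallyNoetherian X] (hZ : StableUnderSpecialization Z) (F : X.Modules) :
    IsZero ((ZClos.H0 Z).obj F) ↔ ∀ x : X, x ∉ Z → Subsingleton (F.presheaf.stalk x) := by
  have hz : ∀ (x : X) (M : X.Modules), IsZero M → ∀ e : M.presheaf.stalk x, e = 0 := by
    intro x M hM e
    obtain ⟨W, hxW, s, rfl⟩ := germM_exist e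
    have : s = 0 := congr(($(hM.eq_of_src (𝟙 M) 0)).app W s)
    rw [this]
    exact germM_zero hxW
  constructor
  · intro h x hx
    exact ⟨fun a b => (rhoStalk_bijective_of_not_mem F hx).1 ((hz x _ h _).trans (hz x _ h _).symm)⟩
  · intro h
    refine isZero_of_sections _ fun V hV s => eq_zero_of_germ_eq_zero hZ (fun T W hW => (resBij_H0 F T W hW).1)
      hV s fun x hx hxZ => ?_
    obtain ⟨e, he⟩ := (rhoStalk_bijective_of_not_mem F hxZ).2 (germM _ V x hx s)
    have := h x hxZ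
    rw [← he, Subsingleton.elim e 0]
    exact map_zero _

theorem hom_ext_of_rho [IsLocallyNoetherian X] {G : X.Modules} (hG : ResInj Z G)
    (v v' : (ZClos.H0 Z).obj F ⟶ G) (h : ZClos.rhoApp Z F ≫ v = ZClos.rhoApp Z F ≫ v') : v = v' := by
  ext U σ₀
  refine section_ext_compact G _ _ fun V hV hc => ?_
  rw [← app_res, ← app_res]
  obtain ⟨T, s, hs⟩ := exists_γ hc (QC70.res _ hV σ₀)
  rw [← hs]
  refine hG T V hc ?_
  rw [← app_res, ← app_res, res_γ, ← rho_app_eq T, ← app_comp_apply, ← app_comp_apply, h]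

/-- The cocone inducing the extension of a map to a Z-closed module. -/
def descCocone {G : X.Modules} (hG : ∀ T : ZClos.Cl Z, IsIso (ZClos.toDiagram Z G T)) (u : F ⟶ G) :
    Cocone ((ZClos.diagram Z).obj F) where
  pt := G
  ι :=
    { app := fun T => have := hG T; ((ZClos.diagram Z).map u).app T ≫ inv (ZClos.toDiagram Z G T)
      naturality := fun T T' f => by
        have := hG T
        have := hG T'
        dsimp only [Functor.const_obj_obj, Functor.const_obj_map]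
        rw [Category.comp_id, ← cancel_mono (ZClos.toDiagram Z G T')]
        simp only [Category.assoc, IsIso.inv_hom_id, Category.comp_id]
        rw [← ZClos.toDiagram_map Z G f, IsIso.inv_hom_id_assoc]
        exact ((ZClos.diagram Z).map u).naturality f }

theorem existsUnique_fac [IsLocallyNoetherian X] {G : X.Modules} (hG : ZClos.IsZClosed Z G) (u : F ⟶ G) :
    ∃! v : (ZClos.H0 Z).obj F ⟶ G, ZClos.rhoApp Z F ≫ v = u := by
  have hb := isZClosed_iff_resBij.mp hG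
  have hi := resBij_iff_isIso_toDiagram.mp hb
  let v₀ : (ZClos.H0 Z).obj F ⟶ G := colimit.desc ((ZClos.diagram Z).obj F) (descCocone hi u)
  refine ⟨v₀, ?_, fun v hv => hom_ext_of_rho (fun T V hV => (hb T V hV).1) v v₀ ?_⟩
  · have := hi ⊥
    have e : inj Z F ⊥ ≫ v₀ = ((ZClos.diagram Z).map u).app ⊥ ≫ inv (ZClos.toDiagram Z G ⊥) :=
      colimit.ι_desc (descCocone hi u) ⊥
    show ZClos.rhoApp Z F ≫ v₀ = u
    rw [ZClos.rhoApp_eq Z F ⊥, Category.assoc]
    refine (congrArg (ZClos.toDiagram Z F ⊥ ≫ ·) e).trans ?_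
    rw [← ZClos.toDiagram_naturality_assoc, IsIso.hom_inv_id, Category.comp_id]
  · refine hv.trans ?_
    have := hi ⊥
    have e : inj Z F ⊥ ≫ v₀ = ((ZClos.diagram Z).map u).app ⊥ ≫ inv (ZClos.toDiagram Z G ⊥) :=
      colimit.ι_desc (descCocone hi u) ⊥
    rw [ZClos.rhoApp_eq Z F ⊥, Category.assoc]
    refine (Eq.symm ?_)
    refine (congrArg (ZClos.toDiagram Z F ⊥ ≫ ·) e).trans ?_
    rw [← ZClos.toDiagram_naturality_assoc, IsIso.hom_inv_id, Category.comp_id]

/-- A map of Z-closed modules bijective on stalks off `Z` is an isomorphism. -/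
theorem isIso_of_stalk_off [IsLocallyNoetherian X] (hZ : StableUnderSpecialization Z)
    (hF : ResBij Z F) (hG : ResBij Z G) (φ : F ⟶ G)
    (h : ∀ x, x ∉ Z → Function.Bijective (stalkMapM φ x)) : IsIso φ := by
  have hinj : ∀ V : X.Opens, IsCompact (V : Set X) → Function.Injective (φ.app V) := by
    intro V hV
    refine (injective_iff_map_eq_zero (φ.app V).hom).mpr fun a ha => ?_
    refine eq_zero_of_germ_eq_zero hZ (fun T W hW => (hF T W hW).1) hV a fun x hx hxZ => (h x hxZ).1 ?_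
    rw [stalkMapM_germ]
    refine Eq.trans (congrArg _ (show φ.app V a = 0 from ha)) ((germM_zero hx).trans ?_)
    exact (map_zero ((TopCat.Presheaf.stalkFunctor _ x).map φ.mapPresheaf).hom).symm
  have : Mono φ := mono_of_compact φ hinj
  refine isIso_of_compact φ fun V hV => ⟨hinj V hV, fun τ => ?_⟩
  let S : Set X.Opens := {B | ∃ (hB : B ≤ V) (a : Γ(F, B)), φ.app B a = QC70.res G hB τ}
  have hsub : ((sSup S : X.Opens) : Set X)ᶜ ∩ (V : Set X) ⊆ Z := by
    rintro x ⟨hx, hxV⟩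
    by_contra hxZ
    obtain ⟨e, he⟩ := (h x hxZ).2 (germM G V x hxV τ)
    obtain ⟨W, hxW, a, rfl⟩ := germM_exist e
    rw [stalkMapM_germ] at he
    obtain ⟨W', hxW', i₁, i₂, e'⟩ := TopCat.Presheaf.germ_eq G.presheaf x hxW hxV _ τ he
    refine hx (Opens.mem_sSup.mpr ⟨W', ⟨i₂.le, QC70.res F i₁.le a, ?_⟩, hxW'⟩)
    rw [app_res]
    exact e'
  let T : ZClos.Cl Z := ⟨⟨_, isClosed_closure⟩,
    closure_inter_subset_of_stable hZ (sSup S).2.isClosed_compl V hsub⟩
  choose a ha using fun B : S => B.2.2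
  obtain ⟨t, ht⟩ := exists_glue F (U := V ⊓ T.U) (fun B : S => V ⊓ T.U ⊓ B.1) (fun B => inf_le_left)
    (fun p hp => by
      obtain ⟨B, hB, hpB⟩ : ∃ B ∈ S, p ∈ B :=
        Opens.mem_sSup.mp (by_contra fun hc => hp.2 (subset_closure ⟨hc, hp.1⟩))
      exact Opens.mem_iSup.mpr ⟨⟨B, hB⟩, hp, hpB⟩)
    (fun B => QC70.res F inf_le_right (a B)) (fun B B' => by
      refine app_injective_of_mono φ _ ?_
      simp only [app_res, ha, res_res])
  obtain ⟨σ, hσ⟩ := (hF T V hV).2 t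
  refine ⟨σ, (hG T V hV).1 ?_⟩
  rw [← app_res, hσ]
  refine section_ext' G (fun B : S => V ⊓ T.U ⊓ B.1) (fun B => inf_le_left) ?_ _ _ fun B => ?_
  · intro p hp
    obtain ⟨B, hB, hpB⟩ : ∃ B ∈ S, p ∈ B :=
      Opens.mem_sSup.mp (by_contra fun hc => hp.2 (subset_closure ⟨hc, hp.1⟩))
    exact Opens.mem_iSup.mpr ⟨⟨B, hB⟩, hp, hpB⟩
  · rw [← app_res, ht B, app_res, ha, res_res, res_res]

theorem isIso_fac_of_stalk [IsLocallyNoetherian X] (hZ : StableUnderSpecialization Z)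
    (hG : ZClos.IsZClosed Z G) (u : F ⟶ G) (hu : ∀ x, x ∉ Z → Function.Bijective (stalkMapM u x))
    (v : (ZClos.H0 Z).obj F ⟶ G) (hv : ZClos.rhoApp Z F ≫ v = u) : IsIso v := by
  refine isIso_of_stalk_off hZ (resBij_H0 F) (isZClosed_iff_resBij.mp hG) v fun x hx => ?_
  have h1 := rhoStalk_bijective_of_not_mem F hx
  have h2 : stalkMapM u x = stalkMapM v x ∘ stalkMapM (ZClos.rhoApp Z F) x := by
    funext e
    obtain ⟨W, hxW, s, rfl⟩ := germM_exist e
    rw [Function.comp_apply, stalkMapM_germ, stalkMapM_germ, stalkMapM_germ, ← app_comp_apply, hv]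
  have h3 := hu x hx
  rw [h2] at h3
  exact (Function.Bijective.of_comp_iff _ h1).mp h3

end Groth.Agent.ZClos93
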