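import Groth.Agent.ZClos93.Depth
import Groth.Agent.ZClos93.Cover
import Groth.Agent.QC70.CohOps
import Groth.Agent.S2089
import Groth.Agent.EGA4Alg4.DepthChange

/-! The locus of closedness, and depth of a coherent Z-closure. -/

set_option autoImplicit false
set_option linter.style.haveILetI false
set_option backward.isDefEq.respectTransparency false

noncomputable section

universe u

open CategoryTheory Limits AlgebraicGeometry TopologicalSpace Opposite Topology
open Groth.Agent.QC70 Groth.Agent.Div89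

namespace Groth.Agent.ZClos93

variable {X : Scheme.{u}} [IsLocallyNoetherian X] {Z : Set X} {F : X.Modules}

theorem two_le_coe_iff (d : ℕ∞) : (2 : WithBot ℕ∞) ≤ (d : WithBot ℕ∞) ↔ (2 : ℕ∞) ≤ d :=
  WithBot.coe_le_coe (a := (2 : ℕ∞))

theorem app_injective_of_stalk {G : X.Modules} (φ : F ⟶ G) {W : X.Opens}
    (h : ∀ y ∈ W, Function.Injective (stalkMapM φ y)) : Function.Injective (φ.app W) := by
  refine (injective_iff_map_eq_zero (φ.app W).hom).mpr fun a ha => ?_
  refine eq_zero_of_germs a fun y hy => h y hy ?_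
  rw [stalkMapM_germ, show φ.app W a = 0 from ha]
  exact (germM_zero hy).trans (map_zero ((TopCat.Presheaf.stalkFunctor _ y).map φ.mapPresheaf).hom).symm

theorem app_bijective_of_stalk {G : X.Modules} (φ : F ⟶ G) {W : X.Opens}
    (h : ∀ y ∈ W, Function.Bijective (stalkMapM φ y)) : Function.Bijective (φ.app W) := by
  refine ⟨app_injective_of_stalk φ fun y hy => (h y hy).1, fun τ => ?_⟩
  have hloc : ∀ y : (W : Set X), ∃ (B : X.Opens) (hB : B ≤ W), y.1 ∈ B ∧
      ∃ a : Γ(F, B), φ.app B a = QC70.res G hB τ := by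
    intro y
    obtain ⟨e, he⟩ := (h y.1 y.2).2 (germM G W y.1 y.2 τ)
    obtain ⟨B, hyB, a, rfl⟩ := germM_exist e
    rw [stalkMapM_germ] at he
    obtain ⟨B', hyB', i₁, i₂, e'⟩ := TopCat.Presheaf.germ_eq G.presheaf y.1 hyB y.2 _ τ he
    exact ⟨B', i₂.le, hyB', QC70.res F i₁.le a, by rw [app_res]; exact e'⟩
  choose B hB hyB a ha using hloc
  obtain ⟨s, hs⟩ := exists_glue F B hB (fun p hp => Opens.mem_iSup.mpr ⟨⟨p, hp⟩, hyB ⟨p, hp⟩⟩) a
    (fun i j => app_injective_of_stalk φ (fun y (hy : y ∈ B i ⊓ B j) => (h y (hB i hy.1)).1) (by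
      simp only [app_res, ha, res_res]))
  exact ⟨s, section_ext' G B hB (fun p hp => Opens.mem_iSup.mpr ⟨⟨p, hp⟩, hyB ⟨p, hp⟩⟩) _ _
    fun y => by rw [← app_res, hs y, ha]⟩

/-- Restriction away from the index is bijective over an open of pointwise closedness. -/
theorem res_bijective_of_stalk {U : X.Opens} (h : ∀ y ∈ U, Function.Bijective (stalkMapM (ZClos.rhoApp Z F) y))
    {A : X.Opens} (hAU : A ≤ U) (hA : IsCompact (A : Set X)) (T : ZClos.Cl Z) :
    Function.Bijective (QC70.res F (inf_le_left : A ⊓ T.U ≤ A)) := by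
  have h1 := app_bijective_of_stalk (ZClos.rhoApp Z F) (W := A) fun y hy => h y (hAU hy)
  have h2 := app_bijective_of_stalk (ZClos.rhoApp Z F) (W := A ⊓ T.U) fun y hy => h y (hAU hy.1)
  have h3 : Function.Bijective (⇑((ZClos.rhoApp Z F).app (A ⊓ T.U)) ∘
      QC70.res F (inf_le_left : A ⊓ T.U ≤ A)) := by
    rw [show ⇑((ZClos.rhoApp Z F).app (A ⊓ T.U)) ∘ QC70.res F (inf_le_left : A ⊓ T.U ≤ A) =
      QC70.res ((ZClos.H0 Z).obj F) inf_le_left ∘ ⇑((ZClos.rhoApp Z F).app A) from
        funext fun s => app_res _ _ s]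
    exact (resBij_H0 F T A hA).comp h1
  exact (Function.Bijective.of_comp_iff' h2 _).mp h3

theorem rho_app_bijective_of_res {A : X.Opens} (hA : IsCompact (A : Set X))
    (h : ∀ B ≤ A, IsCompact (B : Set X) → ∀ T : ZClos.Cl Z,
      Function.Bijective (QC70.res F (inf_le_left : B ⊓ T.U ≤ B))) :
    Function.Bijective ((ZClos.rhoApp Z F).app A) := by
  refine ⟨(injective_iff_map_eq_zero ((ZClos.rhoApp Z F).app A).hom).mpr fun a ha => ?_, fun σ => ?_⟩
  · change (ZClos.rhoApp Z F).app A a = 0 at ha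
    rw [rho_app_eq ⊥] at ha
    obtain ⟨T, hT, h0⟩ := exists_stage_of_γ_eq_zero hA ha
    rw [res_res] at h0
    exact (h A le_rfl hA T).1 (h0.trans (res_zero _).symm)
  · obtain ⟨T, t, rfl⟩ := exists_γ hA σ
    obtain ⟨s, rfl⟩ := (h A le_rfl hA T).2 t
    exact ⟨s, rho_app_eq T A s⟩

theorem stalk_bijective_of_res {V : X.Opens}
    (h : ∀ B ≤ V, IsCompact (B : Set X) → ∀ T : ZClos.Cl Z,
      Function.Bijective (QC70.res F (inf_le_left : B ⊓ T.U ≤ B))) {x : X} (hx : x ∈ V) :
    Function.Bijective (stalkMapM (ZClos.rhoApp Z F) x) := by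
  constructor
  · refine (injective_iff_map_eq_zero ((TopCat.Presheaf.stalkFunctor _ x).map
      (ZClos.rhoApp Z F).mapPresheaf).hom).mpr fun e he => ?_
    obtain ⟨W, hxW, s, rfl⟩ := germM_exist e
    obtain ⟨W', hW, hxW', h0⟩ := germM_eq_zero ((stalkMapM_germ (ZClos.rhoApp Z F) hxW s).symm.trans he)
    obtain ⟨A, hA, hxA, hAW⟩ := exists_compact_nhd (show x ∈ W' ⊓ V from ⟨hxW', hx⟩)
    have hAW' : A ≤ W' := hAW.trans inf_le_left
    have h1 := congrArg (QC70.res _ hAW') h0
    rw [res_res, res_zero, ← app_res] at h1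
    rw [← germM_res (hAW'.trans hW) hxA s,
      (rho_app_bijective_of_res hA fun B hB => h B (hB.trans (hAW.trans inf_le_right))).1
        (h1.trans (map_zero ((ZClos.rhoApp Z F).app A).hom).symm)]
    exact germM_zero _
  · intro e
    obtain ⟨W, hxW, σ, rfl⟩ := germM_exist e
    obtain ⟨A, hA, hxA, hAW⟩ := exists_compact_nhd (show x ∈ W ⊓ V from ⟨hxW, hx⟩)
    obtain ⟨s, hs⟩ := (rho_app_bijective_of_res hA fun B hB => h B (hB.trans (hAW.trans inf_le_right))).2
      (QC70.res _ (hAW.trans inf_le_left) σ)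
    exact ⟨germM F A x hxA s, by rw [stalkMapM_germ, hs, germM_res]⟩

theorem resBij_resF_of_stalk (hZ : StableUnderSpecialization Z) (U : X.Opens)
    (h : ∀ y ∈ U, Function.Bijective (stalkMapM (ZClos.rhoApp Z F) y)) :
    ResBij (U.ι.base ⁻¹' Z) (resF U F) := by
  intro T' W hW
  obtain ⟨T, rfl⟩ := exists_restrictCl_eq U hZ T'
  rw [res_resF]
  have hle : U.ι ''ᵁ W ≤ U := (U.ι.image_mono le_top).trans (by simp)
  have e : U.ι ''ᵁ W ⊓ T.U = U.ι ''ᵁ (W ⊓ (restrictCl U T).U) := (image_inf_preimage U W T.U).symm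
  rw [← res_comp_eq F (inf_le_left : U.ι ''ᵁ W ⊓ T.U ≤ _) e.ge]
  have h1 := res_bijective_of_eq F e.ge e.symm
  have h2 := res_bijective_of_stalk h hle (isCompact_image U hW) T
  exact h1.comp h2

theorem depth_eq_of_stalk_bijective {G : X.Modules} (φ : F ⟶ G) {x : X}
    (h : Function.Bijective (stalkMapM φ x)) :
    LocCoh.depth (X.presheaf.stalk x) (F.presheaf.stalk x) =
      LocCoh.depth (X.presheaf.stalk x) (G.presheaf.stalk x) :=
  EGA4Alg4.depth_eq_of_equiv (LinearEquiv.ofBijective (stalkLinear φ x) h)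

theorem supportDim_eq_of_stalk_bijective {G : X.Modules} (φ : F ⟶ G) {x : X}
    (h : Function.Bijective (stalkMapM φ x)) :
    Module.supportDim (X.presheaf.stalk x) (F.presheaf.stalk x) =
      Module.supportDim (X.presheaf.stalk x) (G.presheaf.stalk x) :=
  Module.supportDim_eq_of_equiv (LinearEquiv.ofBijective (stalkLinear φ x) h)

theorem mem_ass_of_stalk_bijective {G : X.Modules} (φ : F ⟶ G) {x : X}
    (h : Function.Bijective (stalkMapM φ x)) (hx : x ∈ AssSch.Ass F) : x ∈ AssSch.Ass G := by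
  show IsLocalRing.maximalIdeal (X.presheaf.stalk x) ∈ associatedPrimes _ _
  rw [← LinearEquiv.AssociatedPrimes.eq (LinearEquiv.ofBijective (stalkLinear φ x) h)]
  exact hx

theorem depth_H0_ge_two (hZ : StableUnderSpecialization Z) (hH : Coh.IsCoh ((ZClos.H0 Z).obj F)) {x : X}
    (hx : x ∈ Z) :
    (2 : ℕ∞) ≤ LocCoh.depth (X.presheaf.stalk x) (((ZClos.H0 Z).obj F).presheaf.stalk x) := by
  have hiso : IsIso (ZClos.rhoApp Z ((ZClos.H0 Z).obj F)) := isZClosed_iff_resBij.mpr (resBij_H0 F)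
  refine depth_of_isZClosedAt hZ hH (x := x) ?_ x specializes_rfl hx
  exact stalk_bijective_of_res (V := ⊤) (fun B _ hB T => resBij_H0 F T B hB) trivial

/-- The prime of a generisation in the local ring. -/
theorem two_le_dim_quot (hZ : StableUnderSpecialization Z)
    (hH : Coh.IsCoh ((ZClos.H0 Z).obj F)) {x : X} (hx : x ∈ AssSch.Ass F) (hxZ : x ∉ Z) {y : X} (hy : y ∈ Z)
    (h : x ⤳ y) :
    (2 : WithBot ℕ∞) ≤ ringKrullDim (X.presheaf.stalk y ⧸
      (IsLocalRing.maximalIdeal (X.presheaf.stalk x)).comap (X.presheaf.stalkSpecializes h).hom) := by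
  let G := (ZClos.H0 Z).obj F
  have hxG : x ∈ AssSch.Ass G :=
    mem_ass_of_stalk_bijective (ZClos.rhoApp Z F) (rhoStalk_bijective_of_not_mem F hxZ) hx
  obtain ⟨U, hyU⟩ := exists_affine_mem y
  have hxU : x ∈ U.1 := mem_affine_of_specializes h hyU
  letI := Div89.stalkModule G U.1 y hyU
  letI := stalkAlg U.1 y hyU
  haveI := isLocalization_stalk U y hyU
  haveI := isLocalizedModule_germLin G hH.1 U y hyU
  haveI := isScalarTower_stalk G U.1 y hyU
  haveI := finite_sections_of_coh hH U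
  haveI : IsNoetherianRing Γ(X, U.1) := IsLocallyNoetherian.component_noetherian U
  haveI : IsNoetherianRing (X.presheaf.stalk y) :=
    IsLocalization.isNoetherianRing (primeAt U y hyU).primeCompl _ inferInstance
  haveI : Module.Finite (X.presheaf.stalk y) (G.presheaf.stalk y) :=
    Module.Finite.of_isLocalizedModule (primeAt U y hyU).primeCompl (germLin G U.1 y hyU)
  let p := (IsLocalRing.maximalIdeal (X.presheaf.stalk x)).comap (X.presheaf.stalkSpecializes h).hom
  have hp : p ∈ associatedPrimes (X.presheaf.stalk y) (G.presheaf.stalk y) := by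
    have h1 := (FBase64.AssSheaf.mem_ass_iff_associated G hH.1 U x hxU).1 hxG
    rw [← Module.associatedPrimes.preimage_comap_associatedPrimes_eq_associatedPrimes_of_isLocalizedModule
      (primeAt U y hyU).primeCompl (X.presheaf.stalk y) (germLin G U.1 y hyU), Set.mem_preimage]
    convert h1 using 1
    ext r
    rw [Ideal.mem_comap, Ideal.mem_comap, RingHom.algebraMap_toAlgebra,
      IsLocalRing.mem_maximalIdeal, mem_nonunits_iff, TopCat.Presheaf.germ_stalkSpecializes_apply,
      germ_isUnit_iff U x hxU r, not_not]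
  refine le_trans ?_ (S2089.result (M := G.presheaf.stalk y) p hp)
  exact (two_le_coe_iff _).2 (depth_H0_ge_two hZ hH hy)

theorem exists_closedness_locus (hZ : StableUnderSpecialization Z) (hF : Coh.IsCoh F)
    (hH : Coh.IsCoh ((ZClos.H0 Z).obj F)) :
    ∃ U : X.Opens, (U : Set X) = {x | Function.Bijective (stalkMapM (ZClos.rhoApp Z F) x)} ∧
      (U : Set X)ᶜ ⊆ Z := by
  have hK := isCoh_kernel (ZClos.rhoApp Z F) hF hH.1
  have hC := isCoh_cokernel (ZClos.rhoApp Z F) hF.1 hH
  have hopen : IsOpen {x | Function.Bijective (stalkMapM (ZClos.rhoApp Z F) x)} := by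
    rw [isOpen_iff_forall_mem_open]
    intro x hx
    have : (kernel (ZClos.rhoApp Z F)).IsFiniteType := hK.2
    have : (cokernel (ZClos.rhoApp Z F)).IsFiniteType := hC.2
    obtain ⟨U₁, hx₁, h₁⟩ := exists_nhd_sections_subsingleton x (subsingleton_stalk_kernel _ x hx.1)
    obtain ⟨U₂, hx₂, h₂⟩ := exists_nhd_sections_subsingleton x (subsingleton_stalk_cokernel _ x hx.2)
    let V : X.Opens := U₁ ⊓ U₂
    have := mono_restrict_of_kernel_subsingleton (U := V) (ZClos.rhoApp Z F)
      fun W hW => h₁ W (hW.trans inf_le_left)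
    have := epi_restrict_of_cokernel_subsingleton (U := V) (ZClos.rhoApp Z F)
      fun W hW => h₂ W (hW.trans inf_le_right)
    have hiso : IsIso ((Scheme.Modules.restrictFunctor V.ι).map (ZClos.rhoApp Z F)) := isIso_of_mono_of_epi _
    have happ : ∀ A ≤ V, Function.Bijective ((ZClos.rhoApp Z F).app A) := fun A hA => by
      have h3 := app_bijective_of_isIso ((Scheme.Modules.restrictFunctor V.ι).map (ZClos.rhoApp Z F)) (V.ι ⁻¹ᵁ A)
      change Function.Bijective ((ZClos.rhoApp Z F).app (V.ι ''ᵁ V.ι ⁻¹ᵁ A)) at h3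
      rwa [image_preimage_of_le V hA] at h3
    refine ⟨V, fun y hy => ?_, V.2, hx₁, hx₂⟩
    refine stalk_bijective_of_res (V := V) (fun B hB hBc T => ?_) hy
    have h4 : Function.Bijective (⇑((ZClos.rhoApp Z F).app (B ⊓ T.U)) ∘
        QC70.res F (inf_le_left : B ⊓ T.U ≤ B)) := by
      rw [show ⇑((ZClos.rhoApp Z F).app (B ⊓ T.U)) ∘ QC70.res F (inf_le_left : B ⊓ T.U ≤ B) =
        QC70.res ((ZClos.H0 Z).obj F) inf_le_left ∘ ⇑((ZClos.rhoApp Z F).app B) from
          funext fun s => app_res _ _ s]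
      exact (resBij_H0 F T B hBc).comp (happ B hB)
    exact (Function.Bijective.of_comp_iff' (happ _ (inf_le_left.trans hB)) _).mp h4
  exact ⟨⟨_, hopen⟩, rfl, fun x hx => by_contra fun hxZ => hx (rhoStalk_bijective_of_not_mem F hxZ)⟩

theorem le_locus_of_isZClosed (hZ : StableUnderSpecialization Z) {V : X.Opens}
    (hV : ResBij (V.ι.base ⁻¹' Z) (resF V F)) {x : X} (hx : x ∈ V) :
    Function.Bijective (stalkMapM (ZClos.rhoApp Z F) x) :=
  stalk_bijective_of_res (V := V) (fun _ hB hBc T => res_small_bijective V hB T hV hBc) hx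

theorem stableUnderSpecialization_dimGe (n : ℕ) : StableUnderSpecialization (ZClos.dimGe X n) := by
  intro x y hxy hx
  obtain ⟨U, hyU⟩ := exists_affine_mem y
  have hxU := mem_affine_of_specializes hxy hyU
  simp only [ZClos.dimGe, Set.mem_setOf_eq, ringKrullDim_stalk_eq_height U _ hyU,
    ringKrullDim_stalk_eq_height U _ hxU] at hx ⊢
  exact hx.trans (by exact_mod_cast Ideal.height_mono ((specializes_iff_primeAt_le U hyU hxU).1 hxy))

theorem supportDim_stalk_eq (hF : Coh.IsCoh F) (hsupp : ∀ x : X, Nontrivial (F.presheaf.stalk x)) (x : X) :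
    Module.supportDim (X.presheaf.stalk x) (F.presheaf.stalk x) = ringKrullDim (X.presheaf.stalk x) := by
  obtain ⟨U, hxU⟩ := exists_affine_mem x
  letI := Div89.stalkModule F U.1 x hxU
  letI := stalkAlg U.1 x hxU
  haveI := isLocalization_stalk U x hxU
  haveI := isLocalizedModule_germLin F hF.1 U x hxU
  haveI := isScalarTower_stalk F U.1 x hxU
  haveI := finite_sections_of_coh hF U
  haveI : Module.Finite (X.presheaf.stalk x) (F.presheaf.stalk x) :=
    Module.Finite.of_isLocalizedModule (primeAt U x hxU).primeCompl (germLin F U.1 x hxU)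
  suffices h : Module.support (X.presheaf.stalk x) (F.presheaf.stalk x) = Set.univ by
    show Order.krullDim (Module.support (X.presheaf.stalk x) (F.presheaf.stalk x)) = _
    rw [h]
    exact Order.krullDim_eq_of_orderIso OrderIso.Set.univ
  refine Set.eq_univ_of_forall fun q => ?_
  obtain ⟨y, hy, hyq⟩ := exists_point U (q.asIdeal.comap (algebraMap Γ(X, U.1) (X.presheaf.stalk x)))
  obtain ⟨m, hm⟩ := (mem_support_iff_exists F hF.1 U y hy).1 (not_subsingleton_iff_nontrivial.2 (hsupp y))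
  rw [Module.mem_support_iff_exists_annihilator]
  refine ⟨germLin F U.1 x hxU m, fun r hr => ?_⟩
  obtain ⟨t, s, rfl⟩ := IsLocalization.exists_mk'_eq (primeAt U x hxU).primeCompl r
  rw [Submodule.mem_annihilator_span_singleton] at hr
  have h0 : germLin F U.1 x hxU (t • m) = 0 := by
    rw [map_smul, ← algebraMap_smul (X.presheaf.stalk x) t,
      ← IsLocalization.mk'_spec' (X.presheaf.stalk x) t s, mul_smul, hr, smul_zero]
  obtain ⟨u, hu, hut⟩ := (Div89.germ_eq_zero_iff F hF.1 U x hxU (t • m)).1 h0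
  have h' := hm (u * t) (by rw [mul_smul, hut])
  rw [hyq, Ideal.mem_comap, map_mul] at h'
  have hu' : IsUnit (algebraMap Γ(X, U.1) (X.presheaf.stalk x) u) := (germ_isUnit_iff U x hxU u).2 hu
  exact IsLocalization.mk'_mem_iff.mpr ((Ideal.unit_mul_mem_iff_mem q.asIdeal hu').mp h')

theorem min_le_depth_of_dim_le_one (hF : Coh.IsCoh F) (hsupp : ∀ x : X, Nontrivial (F.presheaf.stalk x))
    (hass : ∀ x ∈ AssSch.Ass F, ringKrullDim (X.presheaf.stalk x) ≠ 1) {x : X}
    (hx : x ∉ ZClos.dimGe X 2) :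
    Module.supportDim (X.presheaf.stalk x) (F.presheaf.stalk x) ≤
      ((LocCoh.depth (X.presheaf.stalk x) (F.presheaf.stalk x) : ℕ∞) : WithBot ℕ∞) := by
  rw [supportDim_stalk_eq hF hsupp x]
  obtain ⟨U, hxU⟩ := exists_affine_mem x
  simp only [ZClos.dimGe, Set.mem_setOf_eq, ringKrullDim_stalk_eq_height U _ hxU, not_le] at hx
  rw [ringKrullDim_stalk_eq_height U _ hxU]
  have hlt : (primeAt U x hxU).height < 2 := WithBot.coe_lt_coe.1 hx
  rcases eq_or_ne (primeAt U x hxU).height 1 with h1 | h1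
  · have : x ∉ AssSch.Ass F := fun h => hass x h (by rw [ringKrullDim_stalk_eq_height U _ hxU, h1]; rfl)
    rw [h1]
    exact_mod_cast (one_le_depth_iff_not_ass hF x).2 this
  · have h0 : (primeAt U x hxU).height = 0 := by
      by_contra h0
      have : (1 : ℕ∞) ≤ (primeAt U x hxU).height := Order.one_le_iff_pos.2 (pos_iff_ne_zero.2 h0)
      have h2 : (primeAt U x hxU).height ≤ 1 := Order.le_of_lt_add_one (show _ < (1 : ℕ∞) + 1 by rw [show (1 : ℕ∞) + 1 = 2 from rfl]; exact hlt)
      exact h1 (le_antisymm h2 this)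
    rw [h0]
    exact_mod_cast (zero_le : (0 : ℕ∞) ≤ _)

theorem hasS2_H0 (hF : Coh.IsCoh F) (hsupp : ∀ x : X, Nontrivial (F.presheaf.stalk x))
    (hass : ∀ x ∈ AssSch.Ass F, ringKrullDim (X.presheaf.stalk x) ≠ 1)
    (hH : Coh.IsCoh ((ZClos.H0 (ZClos.dimGe X 2)).obj F)) (x : X) :
    min (2 : WithBot ℕ∞)
      (Module.supportDim (X.presheaf.stalk x) (((ZClos.H0 (ZClos.dimGe X 2)).obj F).presheaf.stalk x)) ≤
      ((LocCoh.depth (X.presheaf.stalk x) (((ZClos.H0 (ZClos.dimGe X 2)).obj F).presheaf.stalk x) : ℕ∞) :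
        WithBot ℕ∞) := by
  by_cases hx : x ∈ ZClos.dimGe X 2
  · refine (min_le_left _ _).trans ?_
    exact (two_le_coe_iff _).2 (depth_H0_ge_two (stableUnderSpecialization_dimGe 2) hH hx)
  · have hb := rhoStalk_bijective_of_not_mem F hx
    rw [← depth_eq_of_stalk_bijective _ hb, ← supportDim_eq_of_stalk_bijective _ hb]
    exact (min_le_right _ _).trans (min_le_depth_of_dim_le_one hF hsupp hass hx)

theorem S2_iff_closed (hF : Coh.IsCoh F) (hsupp : ∀ x : X, Nontrivial (F.presheaf.stalk x))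
    (hass : ∀ x ∈ AssSch.Ass F, ringKrullDim (X.presheaf.stalk x) ≠ 1) (x : X) :
    (∀ y : X, y ⤳ x → min (2 : WithBot ℕ∞) (Module.supportDim (X.presheaf.stalk y) (F.presheaf.stalk y)) ≤
      ((LocCoh.depth (X.presheaf.stalk y) (F.presheaf.stalk y) : ℕ∞) : WithBot ℕ∞)) ↔
    Function.Bijective (stalkMapM (ZClos.rhoApp (ZClos.dimGe X 2) F) x) := by
  rw [isZClosedAt_iff (stableUnderSpecialization_dimGe 2) hF]
  refine forall_congr' fun y => imp_congr_right fun _ => ⟨fun h hy => ?_, fun h => ?_⟩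
  · rw [supportDim_stalk_eq hF hsupp, min_eq_left (show (2 : WithBot ℕ∞) ≤ _ from hy)] at h
    exact (two_le_coe_iff _).1 h
  · by_cases hy : y ∈ ZClos.dimGe X 2
    · refine (min_le_left _ _).trans ?_
      exact (two_le_coe_iff _).2 (h hy)
    · exact (min_le_right _ _).trans (min_le_depth_of_dim_le_one hF hsupp hass hy)

end Groth.Agent.ZClos93
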