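import Groth.Agent.ZClos93.AffineHull
import Groth.Agent.ZClos93.Flat
import Groth.Agent.ZClos93.Depth
import Groth.Agent.Ega11.PushHeight
import Groth.Agent.QC70.CohOps

/-! Coherence of the Z-closure. -/

set_option autoImplicit false
set_option linter.style.haveILetI false
set_option backward.isDefEq.respectTransparency false

noncomputable section

universe u

open CategoryTheory Limits AlgebraicGeometry TopologicalSpace Opposite Topology
open Groth.Agent.QC70

namespace Groth.Agent.ZClos93.Coherence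

section Spec

variable {R : CommRingCat.{u}}

theorem isCoh_iff_finite (M : (Spec R).Modules) [M.IsQuasicoherent] :
    Coh.IsCoh M ↔ Module.Finite R Γ(M, ⊤) := by
  have := (isQuasicoherent_iff_isIso_fromTildeΓ M).mp inferInstance
  let e : tilde (moduleSpecΓFunctor.obj M) ≅ M := asIso M.fromTildeΓ
  refine ⟨fun h => (QCRes72.isFiniteType_tilde_iff _).mp (isCoh_of_iso e.symm h).2, fun h => ?_⟩
  exact isCoh_of_iso e ⟨inferInstance, (QCRes72.isFiniteType_tilde_iff _).mpr h⟩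

variable [IsNoetherianRing R] {Z : Set (Spec R)}

theorem isCoh_H0_tilde_iff (M : ModuleCat.{u} R) :
    Coh.IsCoh ((ZClos.H0 Z).obj (tilde M)) ↔ Module.Finite R (Affine.ΦObj Z M) := by
  have := isQuasicoherent_H0 Z (tilde M)
  exact isCoh_iff_finite _

/-- The sufficient condition for finiteness. -/
theorem finite_Φ (hZ : StableUnderSpecialization Z) (M : Type u) [AddCommGroup M] [Module R M]
    [Module.Finite R M]
    (h : ∀ (P : PrimeSpectrum R), P.asIdeal ∈ associatedPrimes R M → (P : Spec R) ∉ Z →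
      EGA4.HeightOneHullFinite (R ⧸ P.asIdeal) ∧
        ∀ y ∈ Z, P.asIdeal ≤ y.asIdeal → (2 : ℕ∞) ≤ Affine.relHeight P y) :
    Module.Finite R (Affine.ΦObj Z (ModuleCat.of R M)) := by
  have hN : IsNoetherian R ((Affine.Φ Z).obj (ModuleCat.of R M)) := by
    refine Affine.isNoetherian_of_associatedPrimes Z _ M le_rfl fun p hp => ?_
    haveI : p.IsPrime := IsAssociatedPrime.isPrime hp
    by_cases hP : (⟨p, ‹_›⟩ : Spec R) ∈ Z
    · have := Affine.subsingleton_of_mem (⟨p, ‹_›⟩ : PrimeSpectrum R) hZ hP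
      have : Subsingleton ((Affine.Φ Z).obj (ModuleCat.of R (R ⧸ p))) := this
      infer_instance
    · obtain ⟨hfin, hc⟩ := h ⟨p, ‹_›⟩ hp hP
      exact Affine.isNoetherian_quot ⟨p, ‹_›⟩ hZ hfin fun _ => hc
  have : IsNoetherian R (Affine.ΦObj Z (ModuleCat.of R M)) := hN
  exact Module.IsNoetherian.finite R _

theorem isNoetherian_quot_of_finite {M : Type u} [AddCommGroup M] [Module R M]
    [Module.Finite R (Affine.ΦObj Z (ModuleCat.of R M))] {p : Ideal R} (hp : p ∈ associatedPrimes R M) :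
    IsNoetherian R ((Affine.Φ Z).obj (ModuleCat.of R (R ⧸ p))) := by
  obtain ⟨hpp, f, hf⟩ := (isAssociatedPrime_iff_exists_injective_linearMap p M).mp hp
  have : IsNoetherian R ((Affine.Φ Z).obj (ModuleCat.of R M)) :=
    (isNoetherian_of_isNoetherianRing_of_finite R (Affine.ΦObj Z (ModuleCat.of R M)) :)
  exact Affine.isNoetherian_of_injective Z (ModuleCat.ofHom f) hf this

/-- The converse direction, for a quotient by a prime. -/
theorem heightOneHullFinite_of_isCoh (P : PrimeSpectrum R)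
    (h : ∀ (Z : Set (Spec R)), StableUnderSpecialization Z →
      (∀ y ∈ Z, P.asIdeal ≤ y.asIdeal → (2 : ℕ∞) ≤ Affine.relHeight P y) → (P : Spec R) ∉ Z →
      Module.Finite R (Affine.ΦObj Z (Affine.quotM P))) :
    EGA4.HeightOneHullFinite (R ⧸ P.asIdeal) := by
  let Z : Set (Spec R) := {y | P.asIdeal ≤ y.asIdeal ∧ (2 : ℕ∞) ≤ Affine.relHeight P y}
  have hZ : StableUnderSpecialization Z := fun a b hab ⟨ha, ha'⟩ => by
    have hle : a.asIdeal ≤ b.asIdeal := (PrimeSpectrum.le_iff_specializes a b).mpr hab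
    exact ⟨ha.trans hle, ha'.trans (Ideal.height_mono (Ideal.map_mono hle))⟩
  have hP : (P : Spec R) ∉ Z := fun ⟨_, h2⟩ => by
    rw [Affine.relHeight, Ideal.map_quotient_self] at h2
    have h0 : (⊥ : Ideal (R ⧸ P.asIdeal)).height = 0 := by
      rw [Ideal.height_eq_zero_iff, IsDomain.minimalPrimes_eq_singleton_bot]
      exact Set.mem_singleton _
    rw [h0] at h2
    simp at h2
  have := h Z hZ (fun y hy _ => hy.2) hP
  exact Affine.heightOneHullFinite_of_isNoetherian P hZ hP (fun y h1 h2 => ⟨h1, h2⟩)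
    (isNoetherian_of_isNoetherianRing_of_finite R (Affine.ΦObj Z (Affine.quotM P)) :)

/-- Finiteness for a closed set gives height two in the components. -/
theorem two_le_relHeight_of_finite (J : Ideal R) (M : Type u) [AddCommGroup M] [Module R M]
    [hf : Module.Finite R (Affine.ΦObj (PrimeSpectrum.zeroLocus (J : Set R) : Set (Spec R)) (ModuleCat.of R M))]
    (P : PrimeSpectrum R) (hP : P.asIdeal ∈ associatedPrimes R M)
    (hJP : (P : Spec R) ∉ (PrimeSpectrum.zeroLocus (J : Set R) : Set (Spec R)))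
    (y : Spec R) (hy : y ∈ (PrimeSpectrum.zeroLocus (J : Set R) : Set (Spec R))) :
    (2 : ℕ∞) ≤ Affine.relHeight P y := by
  let Zt : Set (Spec R) := PrimeSpectrum.zeroLocus (J : Set R)
  let Tt : ZClos.Cl Zt := ⟨⟨Zt, PrimeSpectrum.isClosed_zeroLocus _⟩, subset_rfl⟩
  let Q : ModuleCat.{u} R := ModuleCat.of R (R ⧸ P.asIdeal)
  let W : (Spec R).Opens := ⊤ ⊓ Tt.U
  have hW : EGA4.openCompl R J = Tt.U := rfl
  have hle : W ≤ EGA4.openCompl R J := inf_le_right
  have hN : IsNoetherian R (Affine.ΦObj Zt Q) := isNoetherian_quot_of_finite (Z := Zt) (M := M) hP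
  let eS := ((tilde.modulesSpecToSheafIso Q).app (op (EGA4.openCompl R J))).toLinearEquiv
  let φ : Ega11.PushBridge.Sec R J (R ⧸ P.asIdeal) →ₗ[R] Affine.ΦObj Zt Q :=
    { toFun := fun t => γ Tt ⊤ (QC70.res (tilde Q) hle (eS.symm t))
      map_add' := fun a b => by
        rw [map_add, QC70.res_add, γ_add]
      map_smul' := fun r a => by
        rw [map_smul, RingHom.id_apply]
        let W' : (Spec R).Opens := ⊤ ⊓ Tt.U
        refine (resBij_H0 (tilde Q) Tt ⊤ (isAffineOpen_top (Spec R)).isCompact).1 ?_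
        have e : ∀ t : Γ(tilde Q, W'), QC70.res ((ZClos.H0 Zt).obj (tilde Q)) (inf_le_left : W' ≤ ⊤)
            (γ Tt ⊤ t) = (ZClos.rhoApp Zt (tilde Q)).app W' t := fun t => by
          rw [res_γ, rho_app_eq Tt]
        rw [Affine.smul_top, res_smul, e, e, ← Scheme.Modules.Hom.app_smul]
        refine congrArg _ ?_
        refine (Scheme.Modules.map_smul_Spec _ _ _).trans ?_
        rw [Scheme.Modules.smul_Spec_def]
        rfl }
  have hφ : Function.Injective φ := by
    refine (injective_iff_map_eq_zero φ).mpr fun t ht => ?_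
    obtain ⟨T', hT', h0⟩ := exists_stage_of_γ_eq_zero (isAffineOpen_top (Spec R)).isCompact
      (show γ Tt ⊤ (QC70.res (tilde Q) hle (eS.symm t)) = 0 from ht)
    rw [res_res] at h0
    have hle' : EGA4.openCompl R J ≤ (⊤ : (Spec R).Opens) ⊓ T'.U := by
      intro z hz
      exact ⟨trivial, fun hzT => hz (T'.2 hzT)⟩
    have h1 := congrArg (QC70.res (tilde Q) hle') h0
    rw [res_res, res_zero, show QC70.res (tilde Q) _ (eS.symm t) = eS.symm t from res_self _] at h1
    exact eS.symm.injective (h1.trans (map_zero eS.symm).symm)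
  have : IsNoetherian R (Ega11.PushBridge.Sec R J (R ⧸ P.asIdeal)) := _root_.isNoetherian_of_injective φ hφ
  have h1 := (Ega11.PushFinite.finite_sec_quotient_iff (J := J) P.asIdeal).mp (Module.IsNoetherian.finite R _)
  have := (Ega11.PushBridge.isCoherentPushCompl_iff _ _ _).mp h1
  refine (Ega11.PushFinite.two_le_height_of_finite_sec (J := J.map (Ideal.Quotient.mk P.asIdeal)) ?_).trans
    (Ideal.height_mono (Ideal.map_mono hy))
  intro h
  refine hJP fun r hr => ?_
  have := Ideal.mem_map_of_mem (Ideal.Quotient.mk P.asIdeal) hr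
  rwa [h, Ideal.mem_bot, Ideal.Quotient.eq_zero_iff_mem] at this

end Spec

section Scheme

variable {X : Scheme.{u}} [IsLocallyNoetherian X] {Z : Set X} {F : X.Modules}

theorem finite_iff_finite_Φ [F.IsQuasicoherent] (hZ : StableUnderSpecialization Z) {U : X.Opens}
    (hU : IsAffineOpen U) [IsNoetherianRing Γ(X, U)] :
    Module.Finite Γ(X, U) Γ((ZClos.H0 Z).obj F, U) ↔
      Module.Finite Γ(X, U) (Affine.ΦObj (hU.fromSpec.base ⁻¹' Z) (ModuleCat.of Γ(X, U) Γ(F, U))) := by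
  let j := hU.fromSpec
  let e1 : (Scheme.Modules.pullback j).obj F ≅ tilde (ModuleCat.of Γ(X, U) Γ(F, U)) :=
    ((Scheme.Modules.restrictFunctorIsoPullback j).app F).symm ≪≫ (tildeIsoSpecRes F hU).symm ≪≫
      (tilde.functor _).mapIso (QCPull72.specTopIso F hU)
  obtain ⟨e2⟩ := nonempty_pullback_H0_iso j hZ F
  let e : specRes ((ZClos.H0 Z).obj F) hU ≅
      (ZClos.H0 (j.base ⁻¹' Z)).obj (tilde (ModuleCat.of Γ(X, U) Γ(F, U))) :=
    (Scheme.Modules.restrictFunctorIsoPullback j).app _ ≪≫ e2 ≪≫ (ZClos.H0 (j.base ⁻¹' Z)).mapIso e1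
  let l := (QCPull72.specTopEquiv ((ZClos.H0 Z).obj F) hU).symm.trans
    (moduleSpecΓFunctor.mapIso e).toLinearEquiv
  refine ⟨fun h => Module.Finite.equiv l, fun h => ?_⟩
  haveI : Module.Finite Γ(X, U) (moduleSpecΓFunctor.obj ((ZClos.H0 (j.base ⁻¹' Z)).obj
      (tilde (ModuleCat.of Γ(X, U) Γ(F, U))))) := h
  exact Module.Finite.equiv l.symm

theorem isCoh_H0_of_finite [F.IsQuasicoherent]
    (h : ∀ U : X.affineOpens, Module.Finite Γ(X, U.1) Γ((ZClos.H0 Z).obj F, U.1)) :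
    Coh.IsCoh ((ZClos.H0 Z).obj F) := by
  have := isQuasicoherent_H0 Z F
  exact ⟨‹_›, isFiniteType_of_finite_sections _ (fun U : X.affineOpens => U.1)
    (IsOpenCover.mk (AlgebraicGeometry.iSup_affineOpens_eq_top X)) (fun U => U.2) h⟩

omit [IsLocallyNoetherian X] in
theorem isIso_inj_of_max (T : ZClos.Cl Z) (hT : ∀ T' : ZClos.Cl Z, T' ≤ T) :
    IsIso (inj Z F T) := by
  let h : IsTerminal T := IsTerminal.ofUniqueHom (fun T' => homOfLE (hT T')) fun _ _ => Subsingleton.elim _ _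
  exact isIso_ι_of_isTerminal h _

omit [IsLocallyNoetherian X] in
theorem resPush_iso_H0 (T : ZClos.Cl Z) :
    Nonempty ((ZClos.resPush T.U).obj F ≅ (ZClos.H0 ((T.1 : Set X))).obj F) := by
  let Tt : ZClos.Cl (T.1 : Set X) := ⟨T.1, subset_rfl⟩
  have := isIso_inj_of_max (F := F) Tt fun T' => T'.2
  exact ⟨asIso (inj (T.1 : Set X) F Tt)⟩

theorem isCoh_resPush_of_isCoh_H0 (hF : Coh.IsCoh F) (hass : ∀ x ∈ AssSch.Ass F, x ∉ Z)
    (hH : Coh.IsCoh ((ZClos.H0 Z).obj F)) (T : ZClos.Cl Z) : Coh.IsCoh ((ZClos.resPush T.U).obj F) := by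
  haveI : F.IsQuasicoherent := hF.1
  haveI := isQuasicoherent_resPush T.U F
  have : Mono (inj Z F T) := by
    refine mono_of_compact _ fun V hV => ?_
    refine (injective_iff_map_eq_zero ((inj Z F T).app V).hom).mpr fun a ha => ?_
    let a₀ : Γ(F, T.U.ι ''ᵁ T.U.ι ⁻¹ᵁ V) := a
    have e : a = ofSec T V (QC70.res F (im_eq T V).ge a₀) := by
      show a₀ = QC70.res F _ (QC70.res F _ a₀)
      rw [res_res]
      exact (res_self a₀).symm
    rw [e] at ha ⊢
    obtain ⟨T', hT', h0⟩ := exists_stage_of_γ_eq_zero hV (show γ T V _ = 0 from ha)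
    have h1 : QC70.res F (im_eq T V).ge a₀ = 0 := by
      have hinj := res_inj_of_no_ass hF (U := ⊤) (fun y _ hy => hass y hy) (le_top : V ⊓ T.U ≤ ⊤) T'
      refine hinj ?_
      have e' : V ⊓ T.U ⊓ T'.U ≤ V ⊓ T'.U := inf_le_inf_right _ inf_le_left
      have h2 := congrArg (QC70.res F e') h0
      simp only [res_res, res_zero] at h2 ⊢
      exact h2
    rw [h1]
    exact map_zero (F.presheaf.map (homOfLE (im_eq T V).le).op).hom
  exact QC70.isCoh_of_mono (inj Z F T) (isQuasicoherent_resPush T.U F) hH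

theorem isCoh_H0_of_family (hZ : StableUnderSpecialization Z) (hF : Coh.IsCoh F)
    (hass : ∀ x ∈ AssSch.Ass F, x ∉ Z)
    (hX : ∀ (V : X.Opens) (hV : IsAffineOpen V) (x : X) (hxV : x ∈ V), x ∈ AssSch.Ass F →
        CAlg.IsUniversallyCatenary (Γ(X, V) ⧸ (hV.primeIdealOf ⟨x, hxV⟩).asIdeal) ∧
          CAlg.IsN1 (Γ(X, V) ⧸ (hV.primeIdealOf ⟨x, hxV⟩).asIdeal))
    (𝒯 : Set (ZClos.Cl Z)) (hcov : ∀ z ∈ Z, ∃ T ∈ 𝒯, z ∈ (T.1 : Set X))
    (hd : ∀ T ∈ 𝒯, Coh.IsCoh ((ZClos.resPush T.U).obj F)) :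
    Coh.IsCoh ((ZClos.H0 Z).obj F) := by
  haveI : F.IsQuasicoherent := hF.1
  refine isCoh_H0_of_finite fun U => ?_
  obtain ⟨U, hU⟩ := U
  haveI : IsNoetherianRing Γ(X, U) := IsLocallyNoetherian.component_noetherian ⟨U, hU⟩
  haveI := finite_sections_of_coh hF ⟨U, hU⟩
  refine (finite_iff_finite_Φ hZ hU).mpr (finite_Φ (hZ.preimage hU.fromSpec.continuous) Γ(F, U) ?_)
  intro P hP hPZ
  have hxU : hU.fromSpec P ∈ U := by
    have := Set.mem_range_self (f := hU.fromSpec) P
    rwa [hU.range_fromSpec] at this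
  have hprime : hU.primeIdealOf ⟨hU.fromSpec P, hxU⟩ = P :=
    hU.fromSpec.isOpenEmbedding.injective (hU.fromSpec_primeIdealOf ⟨_, hxU⟩)
  have hx : hU.fromSpec P ∈ AssSch.Ass F :=
    (FBase64.AssSheaf.mem_ass_iff_associated F hF.1 ⟨U, hU⟩ _ hxU).2
      (show (hU.primeIdealOf ⟨hU.fromSpec P, hxU⟩).asIdeal ∈ _ by rw [hprime]; exact hP)
  obtain ⟨h1, h2⟩ := hX U hU _ hxU hx
  refine ⟨?_, fun y hy hle => ?_⟩
  · have h3 : EGA4.HeightOneHullFinite (Γ(X, U) ⧸ (hU.primeIdealOf ⟨hU.fromSpec P, hxU⟩).asIdeal) := by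
      haveI : IsNoetherianRing (Γ(X, U) ⧸ (hU.primeIdealOf ⟨hU.fromSpec P, hxU⟩).asIdeal) := h1.1
      exact Hull.heightOneHullFinite_of_universallyCatenary _ h1 h2
    exact hprime ▸ h3
  · obtain ⟨T, hT, hyT⟩ := hcov _ hy
    obtain ⟨e⟩ := resPush_iso_H0 (F := F) T
    have hTcl : IsClosed (hU.fromSpec.base ⁻¹' (T.1 : Set X)) := T.1.isClosed.preimage hU.fromSpec.continuous
    obtain ⟨J, hJ⟩ := (PrimeSpectrum.isClosed_iff_zeroLocus_ideal _).mp hTcl
    have hTs : StableUnderSpecialization (T.1 : Set X) := T.1.isClosed.stableUnderSpecialization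
    have hcoh := isCoh_of_iso e (hd T hT)
    have hfin : Module.Finite Γ(X, U) Γ((ZClos.H0 (T.1 : Set X)).obj F, U) :=
      finite_sections_of_coh hcoh ⟨U, hU⟩
    have hfin' := (finite_iff_finite_Φ hTs hU).mp hfin
    rw [hJ] at hfin'
    refine two_le_relHeight_of_finite J Γ(F, U) P hP (fun hPJ => ?_) y (hJ ▸ hyT)
    exact hPZ (T.2 (show hU.fromSpec P ∈ (T.1 : Set X) from
      (Set.ext_iff.mp hJ P).mpr hPJ))

end Scheme

end Groth.Agent.ZClos93.Coherence
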