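import Groth.Agent.ZClos93.Closed
import Groth.Agent.ZClos93.Exact
import Groth.Agent.ZClos93.Hull
import Groth.Agent.Div89.Stalk
import Groth.Agent.S9498
import Groth.Agent.QCRes72.Basic
import Groth.Agent.Ega11.PushAss

/-! Global sections of the Z-closure of a tilde. -/

set_option autoImplicit false
set_option linter.style.haveILetI false
set_option backward.isDefEq.respectTransparency false

noncomputable section

universe u

open CategoryTheory Limits AlgebraicGeometry TopologicalSpace Opposite Topology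
open Groth.Agent.QC70

namespace Groth.Agent.ZClos93.Affine

variable {R : CommRingCat.{u}}

section Functor

variable (Z : Set (Spec R))

/-- Global sections of the Z-closure of a tilde. -/
abbrev Φ : ModuleCat.{u} R ⥤ ModuleCat.{u} R :=
  tilde.functor R ⋙ ZClos.H0 Z ⋙ moduleSpecΓFunctor

/-- The global sections, as a type. -/
abbrev ΦObj (M : ModuleCat.{u} R) : Type u := Γ((ZClos.H0 Z).obj (tilde M), ⊤)

theorem preservesFiniteLimits_Φ : PreservesFiniteLimits (Φ Z) := by
  have := (S9498.tilde_exact R).1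
  have := preservesFiniteLimits_H0 Z
  have : PreservesLimitsOfSize.{0, 0} (moduleSpecΓFunctor (R := R)) :=
    tilde.adjunction.rightAdjoint_preservesLimits
  have : PreservesFiniteLimits (moduleSpecΓFunctor (R := R)) :=
    PreservesLimitsOfSize.preservesFiniteLimits _
  exact comp_preservesFiniteLimits (tilde.functor R) (ZClos.H0 Z ⋙ moduleSpecΓFunctor)

theorem isNoetherian_of_exact {M' M M'' : ModuleCat.{u} R} (f : M' ⟶ M) (g : M ⟶ M'')
    (hf : Function.Injective f.hom) (hfg : Function.Exact f.hom g.hom)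
    (h' : IsNoetherian R ((Φ Z).obj M')) (h'' : IsNoetherian R ((Φ Z).obj M'')) :
    IsNoetherian R ((Φ Z).obj M) := by
  let S := ShortComplex.mk f g (ModuleCat.hom_ext hfg.linearMap_comp_eq_zero)
  have hS : S.Exact := (ShortComplex.ShortExact.moduleCat_exact_iff_function_exact S).mpr hfg
  have := preservesFiniteLimits_Φ Z
  have hm : Mono S.f := (ModuleCat.mono_iff_injective f).mpr hf
  have h1 := hS.map_of_mono_of_preservesKernel (Φ Z) hm inferInstance
  exact isNoetherian_of_range_eq_ker ((Φ Z).map f).hom ((Φ Z).map g).hom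
    (LinearMap.exact_iff.mp ((ShortComplex.ShortExact.moduleCat_exact_iff_function_exact _).mp h1)).symm

theorem isNoetherian_of_injective {M' M : ModuleCat.{u} R} (f : M' ⟶ M) (hf : Function.Injective f.hom)
    (h : IsNoetherian R ((Φ Z).obj M)) : IsNoetherian R ((Φ Z).obj M') := by
  have := preservesFiniteLimits_Φ Z
  have : Mono f := (ModuleCat.mono_iff_injective f).mpr hf
  exact _root_.isNoetherian_of_injective ((Φ Z).map f).hom ((ModuleCat.mono_iff_injective _).mp inferInstance)

variable [IsNoetherianRing R]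

theorem subsingleton_Φ_of_subsingleton {M : ModuleCat.{u} R} (h : Subsingleton M) :
    Subsingleton ((Φ Z).obj M) := by
  have := preservesFiniteLimits_Φ Z
  exact ModuleCat.subsingleton_of_isZero ((Φ Z).map_isZero (ModuleCat.isZero_of_subsingleton M))

theorem isNoetherian_of_associatedPrimes :
    ∀ (n : ℕ) (M : Type u) [AddCommGroup M] [Module R M] [Module.Finite R M],
      (associatedPrimes R M).ncard ≤ n →
      (∀ p ∈ associatedPrimes R M, IsNoetherian R ((Φ Z).obj (ModuleCat.of R (R ⧸ p)))) →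
      IsNoetherian R ((Φ Z).obj (ModuleCat.of R M)) := by
  intro n
  induction n with
  | zero =>
    intro M _ _ _ hn _
    have hempty := (Set.ncard_eq_zero (associatedPrimes.finite R M)).mp (Nat.le_zero.mp hn)
    have : Subsingleton M := by
      by_contra h
      rw [not_subsingleton_iff_nontrivial] at h
      exact (associatedPrimes.nonempty R M).ne_empty hempty
    have := subsingleton_Φ_of_subsingleton Z (M := ModuleCat.of R M) this
    infer_instance
  | succ n ih =>
    intro M _ _ _ hn h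
    by_cases hn' : (associatedPrimes R M).ncard ≤ n
    · exact ih M hn' h
    obtain ⟨p, hp⟩ : (associatedPrimes R M).Nonempty := by
      refine Set.nonempty_of_ncard_ne_zero ?_; omega
    obtain ⟨N, hpN, hQ⟩ := Ega11.PushFinite.exists_submodule_removing_prime (A := R) (M := M) p
    have hsub : associatedPrimes R N ⊆ associatedPrimes R M :=
      associatedPrimes.subset_of_injective N.subtype_injective
    have hN : IsNoetherian R ((Φ Z).obj (ModuleCat.of R N)) := by
      refine ih N ?_ fun q hq => h q (hsub hq)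
      have : (associatedPrimes R N).ncard < (associatedPrimes R M).ncard :=
        Set.ncard_lt_ncard ⟨hsub, fun hh => hpN (hh hp)⟩ (associatedPrimes.finite R M)
      omega
    have hQ' : IsNoetherian R ((Φ Z).obj (ModuleCat.of R (M ⧸ N))) := by
      rcases Set.subset_singleton_iff_eq.mp hQ with he | he
      · exact ih (M ⧸ N) (by simp [he]) (by simp [he])
      · obtain ⟨m, Fi, hanti, h0, hlast, hg⟩ := Groth.Agent.S4722.result R (M ⧸ N) p he
        suffices ∀ i, IsNoetherian R ((Φ Z).obj (ModuleCat.of R (Fi i))) by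
          let f0 : (M ⧸ N) →ₗ[R] Fi 0 := LinearMap.codRestrict (Fi 0) LinearMap.id (fun x => by rw [h0]; trivial)
          have hN0 : IsNoetherian R ((Φ Z).obj (ModuleCat.of R (Fi 0))) := this (0 : Fin (m + 1))
          exact isNoetherian_of_injective Z (ModuleCat.ofHom f0) (fun a b e => congrArg Subtype.val e) hN0
        intro i
        induction i using Fin.reverseInduction with
        | last =>
          have hs : Subsingleton (Fi (Fin.last m)) := by rw [hlast]; infer_instance
          have := subsingleton_Φ_of_subsingleton Z (M := ModuleCat.of R (Fi (Fin.last m))) hs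
          infer_instance
        | cast i ih' =>
          obtain ⟨g, hg⟩ := hg i
          have hle : Fi i.succ ≤ Fi i.castSucc := hanti i.castSucc_le_succ
          refine isNoetherian_of_exact Z (ModuleCat.ofHom (Submodule.inclusion hle))
            (ModuleCat.ofHom ((Fi i.succ).comap (Fi i.castSucc).subtype).mkQ) (Submodule.inclusion_injective hle) ?_
            ih' (isNoetherian_of_injective Z (ModuleCat.ofHom g) hg (h p hp))
          rw [ModuleCat.hom_ofHom, ModuleCat.hom_ofHom, LinearMap.exact_iff, Submodule.ker_mkQ,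
            Submodule.range_inclusion]
    exact isNoetherian_of_exact Z (ModuleCat.ofHom N.subtype) (ModuleCat.ofHom N.mkQ) N.subtype_injective
      (LinearMap.exact_subtype_mkQ N) hN hQ'

end Functor

/-! ### Stalks of a tilde -/

variable [IsNoetherianRing R]

/-- The function on `Spec R` given by a ring element. -/
abbrev ι' (r : R) : Γ(Spec R, ⊤) := (Scheme.ΓSpecIso R).inv r

theorem smul_top (M : (Spec R).Modules) (r : R) (s : Γ(M, ⊤)) : r • s = ι' r • s := by
  rw [Scheme.Modules.smul_Spec_def]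
  rw [show (⊤ : (Spec R).Opens).leTop = 𝟙 _ from Subsingleton.elim _ _, op_id,
    CategoryTheory.Functor.map_id]
  rfl

/-- The global section of a tilde given by an element. -/
abbrev sec (M : ModuleCat.{u} R) (n : M) : Γ(tilde M, ⊤) := (tilde.toOpen M ⊤).hom n

theorem sec_bijective (M : ModuleCat.{u} R) : Function.Bijective (sec M) :=
  ConcreteCategory.bijective_of_isIso (tilde.toOpen M ⊤)

theorem sec_smul (M : ModuleCat.{u} R) (r : R) (n : M) : sec M (r • n) = ι' r • sec M n :=
  ((tilde.toOpen M ⊤).hom.map_smul r n).trans (smul_top (tilde M) r _)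

theorem basicOpen_ι' (r : R) : (Spec R).basicOpen (ι' r) = PrimeSpectrum.basicOpen r := by
  rw [← AlgebraicGeometry.basicOpen_eq_of_affine]

/-- The affine open `⊤` of `Spec R`. -/
abbrev topAff (R : CommRingCat.{u}) : (Spec R).affineOpens := ⟨⊤, isAffineOpen_top (Spec R)⟩

theorem ι'_mem_primeAt_iff (y : Spec R) (r : R) :
    ι' r ∈ Div89.primeAt (topAff R) y trivial ↔ r ∈ y.asIdeal := by
  rw [Div89.mem_primeAt_iff, basicOpen_ι']
  exact not_not

theorem isUnit_germ_ι' {y : Spec R} {r : R} (h : r ∉ y.asIdeal) :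
    IsUnit ((Spec R).presheaf.germ ⊤ y trivial (ι' r)) :=
  (Div89.germ_isUnit_iff (topAff R) y trivial _).2 fun hr => h ((ι'_mem_primeAt_iff y r).1 hr)

theorem exists_smul_eq_germ_sec (M : ModuleCat.{u} R) (y : Spec R) (e : (tilde M).presheaf.stalk y) :
    ∃ (s : R) (n : M), s ∉ y.asIdeal ∧
      (Spec R).presheaf.germ ⊤ y trivial (ι' s) • e = germM (tilde M) ⊤ y trivial (sec M n) := by
  haveI : (Div89.primeAt (topAff R) y trivial).IsPrime := Div89.primeAt_isPrime (topAff R) y trivial
  letI := Div89.stalkModule (tilde M) (topAff R).1 y trivial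
  haveI := Div89.isLocalizedModule_germLin (tilde M) inferInstance (topAff R) y trivial
  obtain ⟨⟨m, c⟩, hc⟩ := IsLocalizedModule.surj (Div89.primeAt (topAff R) y trivial).primeCompl
    (Div89.germLin (tilde M) (topAff R).1 y trivial) e
  obtain ⟨s, hs⟩ := (ConcreteCategory.bijective_of_isIso (Scheme.ΓSpecIso R).inv).2 c.1
  obtain ⟨n, hn⟩ := (sec_bijective M).2 m
  refine ⟨s, n, fun h => c.2 ?_, ?_⟩
  · rw [← hs]
    exact (ι'_mem_primeAt_iff y s).2 h
  · rw [show ι' s = c.1 from hs, hn]
    exact hc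

theorem germ_sec_eq_zero_iff (M : ModuleCat.{u} R) (y : Spec R) (n : M) :
    germM (tilde M) ⊤ y trivial (sec M n) = 0 ↔ ∃ t : R, t ∉ y.asIdeal ∧ t • n = 0 := by
  refine (Div89.germ_eq_zero_iff (tilde M) inferInstance (topAff R) y trivial (sec M n)).trans ⟨?_, ?_⟩
  · rintro ⟨c, hc, hcn⟩
    obtain ⟨t, rfl⟩ := (ConcreteCategory.bijective_of_isIso (Scheme.ΓSpecIso R).inv).2 c
    refine ⟨t, fun h => hc ((ι'_mem_primeAt_iff y t).2 h), (sec_bijective M).1 ?_⟩
    rw [sec_smul]
    exact hcn.trans (map_zero (tilde.toOpen M ⊤).hom).symm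
  · rintro ⟨t, ht, htn⟩
    refine ⟨ι' t, fun h => ht ((ι'_mem_primeAt_iff y t).1 h), ?_⟩
    rw [← sec_smul, htn]
    exact map_zero (tilde.toOpen M ⊤).hom

/-! ### Sections of the closure as fractions -/

variable (Z : Set (Spec R)) (M : ModuleCat.{u} R)

/-- A global section of the closure agrees with the fraction `n / s` at `y`. -/
def Rel (y : Spec R) (σ : ΦObj Z M) (s : R) (n : M) : Prop :=
  germM ((ZClos.H0 Z).obj (tilde M)) ⊤ y trivial (ι' s • σ) =
    stalkMapM (ZClos.rhoApp Z (tilde M)) y (germM (tilde M) ⊤ y trivial (sec M n))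

theorem exists_rel {y : Spec R} (hy : y ∉ Z) (σ : ΦObj Z M) :
    ∃ (s : R) (n : M), s ∉ y.asIdeal ∧ Rel Z M y σ s n := by
  obtain ⟨e, he⟩ := (rhoStalk_bijective_of_not_mem (tilde M) hy).2
    (germM ((ZClos.H0 Z).obj (tilde M)) ⊤ y trivial σ)
  obtain ⟨s, n, hs, hn⟩ := exists_smul_eq_germ_sec M y e
  refine ⟨s, n, hs, ?_⟩
  rw [Rel, germM_smul, ← he, ← hn]
  exact ((stalkLinear (ZClos.rhoApp Z (tilde M)) y).map_smul _ _).symm

theorem rel_of_specializes {x y : Spec R} (h : x ⤳ y) {σ : ΦObj Z M} {s : R} {n : M} (hr : Rel Z M y σ s n) :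
    Rel Z M x σ s n := by
  rw [Rel, stalkMapM_germ] at hr ⊢
  obtain ⟨W, hyW, i₁, i₂, e⟩ := TopCat.Presheaf.germ_eq ((ZClos.H0 Z).obj (tilde M)).presheaf y (U := ⊤) (V := ⊤) trivial trivial _ _ hr
  have hx : x ∈ W := h.mem_open W.2 hyW
  rw [← germM_res i₁.le hx, ← germM_res i₂.le hx]
  exact congrArg _ e

theorem rel_add {y : Spec R} {σ σ' : ΦObj Z M} {s s' : R} {n n' : M} (h : Rel Z M y σ s n)
    (h' : Rel Z M y σ' s' n') : Rel Z M y (σ + σ') (s * s') (s' • n + s • n') := by
  simp only [Rel, stalkMapM_germ] at h h' ⊢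
  rw [show sec M (s' • n + s • n') = ι' s' • sec M n + ι' s • sec M n' by
      rw [← sec_smul, ← sec_smul]; exact map_add (tilde.toOpen M ⊤).hom _ _,
    map_add, Scheme.Modules.Hom.app_smul, Scheme.Modules.Hom.app_smul, smul_add,
    germM_add, germM_add]
  simp only [germM_smul, map_mul] at h h' ⊢
  rw [← h, ← h', smul_smul, smul_smul, mul_comm ((Spec R).presheaf.germ ⊤ y trivial (ι' s))]

theorem rel_smul {y : Spec R} {σ : ΦObj Z M} {s : R} {n : M} (h : Rel Z M y σ s n) (r : R) :
    Rel Z M y (r • σ) s (r • n) := by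
  simp only [Rel, stalkMapM_germ, sec_smul, smul_top, Scheme.Modules.Hom.app_smul] at h ⊢
  rw [smul_comm, germM_smul, h, ← germM_smul]

theorem eq_zero_of_rel (hZ : StableUnderSpecialization Z) (σ : ΦObj Z M)
    (h : ∀ y, y ∉ Z → ∃ (s : R) (n : M), s ∉ y.asIdeal ∧ Rel Z M y σ s n ∧
      ∃ t : R, t ∉ y.asIdeal ∧ t • n = 0) : σ = 0 := by
  refine eq_zero_of_germ_eq_zero hZ (fun T V hV => (resBij_H0 (tilde M) T V hV).1)
    (isAffineOpen_top (Spec R)).isCompact σ fun y _ hy => ?_
  obtain ⟨s, n, hs, hr, ht⟩ := h y hy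
  rw [Rel, (germ_sec_eq_zero_iff M y n).2 ht, germM_smul] at hr
  exact (isUnit_germ_ι' hs).smul_eq_zero.mp (hr.trans (map_zero ((TopCat.Presheaf.stalkFunctor _ y).map
    (ZClos.rhoApp Z (tilde M)).mapPresheaf).hom))

theorem rel_unique {y : Spec R} (hy : y ∉ Z) {σ : ΦObj Z M} {s s' : R} {n n' : M}
    (h : Rel Z M y σ s n) (h' : Rel Z M y σ s' n') :
    ∃ t : R, t ∉ y.asIdeal ∧ t • (s' • n - s • n') = 0 := by
  refine (germ_sec_eq_zero_iff M y _).1 ((rhoStalk_bijective_of_not_mem (tilde M) hy).1 ?_)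
  simp only [Rel, stalkMapM_germ] at h h'
  rw [stalkMapM_germ, show sec M (s' • n - s • n') = ι' s' • sec M n - ι' s • sec M n' by
      rw [← sec_smul, ← sec_smul]; exact map_sub (tilde.toOpen M ⊤).hom _ _,
    map_sub, Scheme.Modules.Hom.app_smul, Scheme.Modules.Hom.app_smul]
  refine (map_sub (((ZClos.H0 Z).obj (tilde M)).presheaf.germ ⊤ y trivial).hom _ _).trans ?_
  refine Eq.trans ?_ (map_zero ((TopCat.Presheaf.stalkFunctor _ y).map
    (ZClos.rhoApp Z (tilde M)).mapPresheaf).hom).symm
  rw [sub_eq_zero]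
  simp only [germM_smul] at h h' ⊢
  rw [← h, ← h', smul_smul, smul_smul, mul_comm]

end Groth.Agent.ZClos93.Affine
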