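import Groth.Agent.ZClos93.Affine

/-! Global sections of the Z-closure of `R/P` and the height-one hull. -/

set_option autoImplicit false
set_option linter.style.haveILetI false
set_option backward.isDefEq.respectTransparency false

noncomputable section

universe u

open CategoryTheory Limits AlgebraicGeometry TopologicalSpace Opposite Topology
open Groth.Agent.QC70

namespace Groth.Agent.ZClos93.Affine

variable {R : CommRingCat.{u}} [IsNoetherianRing R] (P : PrimeSpectrum R)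

/-- The quotient by a prime, as a module. -/
abbrev quotM : ModuleCat.{u} R := ModuleCat.of R (R ⧸ P.asIdeal)

/-- The fraction field of the quotient. -/
abbrev KK : Type u := FractionRing (R ⧸ P.asIdeal)

local notation "mkP" => Ideal.Quotient.mk (P.asIdeal)

theorem algebraMap_smul_quot (r : R) (m : R ⧸ P.asIdeal) :
    algebraMap (R ⧸ P.asIdeal) (KK P) (r • m) =
      algebraMap (R ⧸ P.asIdeal) (KK P) (mkP r) * algebraMap (R ⧸ P.asIdeal) (KK P) m := by
  rw [← map_mul, Algebra.smul_def, Ideal.Quotient.algebraMap_eq]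

theorem algebraMap_mk_ne_zero {s : R} (hs : s ∉ P.asIdeal) :
    algebraMap (R ⧸ P.asIdeal) (KK P) (mkP s) ≠ 0 := by
  rwa [ne_eq, IsFractionRing.to_map_eq_zero_iff, Ideal.Quotient.eq_zero_iff_mem]

variable {Z : Set (Spec R)}

/-- The value at the generic point. -/
def xval (hP : (P : Spec R) ∉ Z) (σ : ΦObj Z (quotM P)) : KK P :=
  algebraMap (R ⧸ P.asIdeal) (KK P) (exists_rel Z (quotM P) hP σ).choose_spec.choose /
    algebraMap (R ⧸ P.asIdeal) (KK P) (mkP (exists_rel Z (quotM P) hP σ).choose)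

theorem xval_eq (hP : (P : Spec R) ∉ Z) {σ : ΦObj Z (quotM P)} {s : R} {n : R ⧸ P.asIdeal}
    (h : Rel Z (quotM P) (P : Spec R) σ s n) :
    algebraMap (R ⧸ P.asIdeal) (KK P) n = algebraMap (R ⧸ P.asIdeal) (KK P) (mkP s) * xval P hP σ := by
  obtain ⟨hs₀, h₀⟩ := (exists_rel Z (quotM P) hP σ).choose_spec.choose_spec
  obtain ⟨t, ht, he⟩ := rel_unique Z (quotM P) hP h₀ h
  have h1 := congrArg (algebraMap (R ⧸ P.asIdeal) (KK P)) he
  rw [map_zero, algebraMap_smul_quot, map_sub, algebraMap_smul_quot, algebraMap_smul_quot] at h1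
  have h2 := sub_eq_zero.mp ((mul_eq_zero.mp h1).resolve_left (algebraMap_mk_ne_zero P ht))
  rw [xval, ← mul_div_assoc, h2, mul_div_cancel_left₀ _ (algebraMap_mk_ne_zero P hs₀)]

theorem xval_unique (hP : (P : Spec R) ∉ Z) {σ : ΦObj Z (quotM P)} {s : R} {n : R ⧸ P.asIdeal}
    (hs : s ∉ P.asIdeal) (h : Rel Z (quotM P) (P : Spec R) σ s n) {x : KK P}
    (hx : algebraMap (R ⧸ P.asIdeal) (KK P) n = algebraMap (R ⧸ P.asIdeal) (KK P) (mkP s) * x) :
    xval P hP σ = x :=
  mul_left_cancel₀ (algebraMap_mk_ne_zero P hs) ((xval_eq P hP h).symm.trans hx)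

/-- The value at the generic point, as a linear map. -/
def ψ (hP : (P : Spec R) ∉ Z) : ΦObj Z (quotM P) →ₗ[R] KK P where
  toFun := xval P hP
  map_add' σ σ' := by
    obtain ⟨s, n, hs, h⟩ := exists_rel Z (quotM P) hP σ
    obtain ⟨s', n', hs', h'⟩ := exists_rel Z (quotM P) hP σ'
    refine xval_unique P hP (fun hh => (P.isPrime.mem_or_mem hh).elim hs hs') (rel_add Z _ h h') ?_
    rw [map_add, algebraMap_smul_quot, algebraMap_smul_quot, xval_eq P hP h, xval_eq P hP h', map_mul, map_mul]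
    ring
  map_smul' r σ := by
    obtain ⟨s, n, hs, h⟩ := exists_rel Z (quotM P) hP σ
    refine xval_unique P hP hs (rel_smul Z _ h r) ?_
    rw [algebraMap_smul_quot, xval_eq P hP h, RingHom.id_apply, ← Ideal.Quotient.algebraMap_eq,
      ← IsScalarTower.algebraMap_apply, ← IsScalarTower.algebraMap_apply, Algebra.smul_def]
    ring

theorem not_le_of_kill {y : Spec R} (h : ¬ P.asIdeal ≤ y.asIdeal) (n : R ⧸ P.asIdeal) :
    ∃ t : R, t ∉ y.asIdeal ∧ t • n = 0 := by
  obtain ⟨t, ht, hty⟩ := SetLike.not_le_iff_exists.mp h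
  exact ⟨t, hty, by rw [Algebra.smul_def, Ideal.Quotient.algebraMap_eq, Ideal.Quotient.eq_zero_iff_mem.mpr ht, zero_mul]⟩

theorem ψ_injective (hZ : StableUnderSpecialization Z) (hP : (P : Spec R) ∉ Z) :
    Function.Injective (ψ P hP) := by
  refine (injective_iff_map_eq_zero _).mpr fun σ hσ => eq_zero_of_rel Z _ hZ σ fun y hy => ?_
  obtain ⟨s, n, hs, h⟩ := exists_rel Z (quotM P) hy σ
  refine ⟨s, n, hs, h, ?_⟩
  by_cases hle : P.asIdeal ≤ y.asIdeal
  · refine ⟨1, fun h1 => y.isPrime.ne_top ((Ideal.eq_top_iff_one _).mpr h1), ?_⟩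
    rw [one_smul]
    have h1 := xval_eq P hP (rel_of_specializes Z _ ((PrimeSpectrum.le_iff_specializes P y).mp hle) h)
    rw [show xval P hP σ = 0 from hσ, mul_zero] at h1
    exact IsFractionRing.to_map_eq_zero_iff.mp h1
  · exact not_le_of_kill P hle n

theorem subsingleton_of_mem (hZ : StableUnderSpecialization Z) (hP : (P : Spec R) ∈ Z) :
    Subsingleton (ΦObj Z (quotM P)) := by
  refine subsingleton_of_forall_eq 0 fun σ => eq_zero_of_rel Z _ hZ σ fun y hy => ?_
  obtain ⟨s, n, hs, h⟩ := exists_rel Z (quotM P) hy σ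
  exact ⟨s, n, hs, h, not_le_of_kill P
    (fun hle => hy (hZ ((PrimeSpectrum.le_iff_specializes P y).mp hle) hP)) n⟩

/-- The height in the quotient. -/
abbrev relHeight (y : Spec R) : ℕ∞ := (y.asIdeal.map mkP).height

theorem comap_height_one (q : Ideal (R ⧸ P.asIdeal)) [q.IsPrime] :
    (q.comap mkP).map mkP = q := Ideal.map_comap_of_surjective _ Ideal.Quotient.mk_surjective q

theorem ψ_mem_hull (hP : (P : Spec R) ∉ Z)
    (hcond : ∀ y ∈ Z, P.asIdeal ≤ y.asIdeal → (2 : ℕ∞) ≤ relHeight P y) (σ : ΦObj Z (quotM P)) :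
    ψ P hP σ ∈ Hull.hull (R ⧸ P.asIdeal) := by
  intro q _ hq
  let y : Spec R := ⟨q.comap mkP, inferInstance⟩
  have hPy : P.asIdeal ≤ y.asIdeal := fun r hr => by
    show mkP r ∈ q
    rw [Ideal.Quotient.eq_zero_iff_mem.mpr hr]
    exact zero_mem _
  have hy : y ∉ Z := fun hy => by
    have h2 := hcond y hy hPy
    rw [relHeight, show y.asIdeal.map mkP = q from comap_height_one P q, hq] at h2
    exact absurd h2 (by norm_num)
  obtain ⟨s, n, hs, h⟩ := exists_rel Z (quotM P) hy σ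
  exact ⟨mkP s, hs, n,
    xval_eq P hP (rel_of_specializes Z _ ((PrimeSpectrum.le_iff_specializes P y).mp hPy) h)⟩

theorem isNoetherian_quot (hZ : StableUnderSpecialization Z) (hfin : EGA4.HeightOneHullFinite (R ⧸ P.asIdeal))
    (hcond : (P : Spec R) ∉ Z → ∀ y ∈ Z, P.asIdeal ≤ y.asIdeal → (2 : ℕ∞) ≤ relHeight P y) :
    IsNoetherian R ((Φ Z).obj (quotM P)) := by
  by_cases hP : (P : Spec R) ∈ Z
  · have := subsingleton_of_mem P hZ hP
    have : Subsingleton ((Φ Z).obj (quotM P)) := this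
    infer_instance
  · have := (Hull.heightOneHullFinite_iff _).mp hfin
    have : Module.Finite R (Hull.hull (R ⧸ P.asIdeal)) := Module.Finite.trans (R ⧸ P.asIdeal) _
    have : IsNoetherian R (Hull.hull (R ⧸ P.asIdeal)) := isNoetherian_of_isNoetherianRing_of_finite R _
    let S : Submodule R (KK P) := (Subalgebra.toSubmodule (Hull.hull (R ⧸ P.asIdeal))).restrictScalars R
    have : IsNoetherian R S := ‹IsNoetherian R (Hull.hull (R ⧸ P.asIdeal))›
    exact _root_.isNoetherian_of_injective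
      ((ψ P hP).codRestrict S (ψ_mem_hull P hP (hcond hP)) : (Φ Z).obj (quotM P) →ₗ[R] S)
      (fun a b e => ψ_injective P hZ hP (congrArg Subtype.val e))

theorem hull_subset_range (hZ : StableUnderSpecialization Z) (hP : (P : Spec R) ∉ Z)
    (hbig : ∀ y : Spec R, P.asIdeal ≤ y.asIdeal → (2 : ℕ∞) ≤ relHeight P y → y ∈ Z)
    {x : KK P} (hx : x ∈ Hull.hull (R ⧸ P.asIdeal)) : ∃ σ, ψ P hP σ = x := by
  classical
  let aK := algebraMap (R ⧸ P.asIdeal) (KK P)
  let I : Ideal R :=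
    { carrier := {s | ∃ n, aK n = aK (mkP s) * x}
      zero_mem' := ⟨0, by simp⟩
      add_mem' := fun {a b} ⟨n, hn⟩ ⟨m, hm⟩ => ⟨n + m, by rw [map_add, hn, hm, map_add, map_add, add_mul]⟩
      smul_mem' := fun r {a} ⟨n, hn⟩ => ⟨mkP r * n, by
        rw [smul_eq_mul, map_mul, hn, map_mul, map_mul, mul_assoc]⟩ }
  obtain ⟨m, d, hd, hmd⟩ := IsFractionRing.div_surjective (R ⧸ P.asIdeal) x
  obtain ⟨d, rfl⟩ := Ideal.Quotient.mk_surjective d
  have hdP : d ∉ P.asIdeal := fun h =>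
    nonZeroDivisors.ne_zero hd (Ideal.Quotient.eq_zero_iff_mem.mpr h)
  have hdI : d ∈ I := ⟨m, by rw [← hmd, mul_div_cancel₀ _ (algebraMap_mk_ne_zero P hdP)]⟩
  have hT : PrimeSpectrum.zeroLocus (I : Set R) ⊆ Z := by
    intro y hy
    have hIy : I ≤ y.asIdeal := hy
    have hPy : P.asIdeal ≤ y.asIdeal := fun r hr =>
      hIy ⟨0, by rw [map_zero, Ideal.Quotient.eq_zero_iff_mem.mpr hr, map_zero, zero_mul]⟩
    refine hbig y hPy ?_
    have hq : (y.asIdeal.map mkP).IsPrime :=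
      Ideal.map_isPrime_of_surjective Ideal.Quotient.mk_surjective (by rwa [Ideal.mk_ker])
    by_contra hlt
    rw [not_le] at hlt
    have hle : (y.asIdeal.map mkP).height ≤ 1 := Order.le_of_lt_add_one
      (show _ < (1 : ℕ∞) + 1 by rw [show (1 : ℕ∞) + 1 = 2 from rfl]; exact hlt)
    rcases le_iff_lt_or_eq.mp hle with h0 | h1
    · have hbot : y.asIdeal.map mkP = ⊥ := by
        have h := Ideal.height_eq_zero_iff.mp (ENat.lt_one_iff_eq_zero.mp h0)
        rwa [IsDomain.minimalPrimes_eq_singleton_bot] at h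
      have := Ideal.mem_map_of_mem mkP (hIy hdI)
      rw [hbot, Ideal.mem_bot, Ideal.Quotient.eq_zero_iff_mem] at this
      exact hdP this
    · obtain ⟨s', hs', n, hn⟩ := hx (y.asIdeal.map mkP) h1
      obtain ⟨s, rfl⟩ := Ideal.Quotient.mk_surjective s'
      exact hs' (Ideal.mem_map_of_mem mkP (hIy ⟨n, hn⟩))
  let T : ZClos.Cl Z := ⟨⟨_, PrimeSpectrum.isClosed_zeroLocus (I : Set R)⟩, hT⟩
  let W : (Spec R).Opens := ⊤ ⊓ T.U
  let D : I → (Spec R).Opens := fun s => PrimeSpectrum.basicOpen (s : R)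
  have hDW : ∀ s : I, D s ≤ W := fun s y hy => ⟨trivial, fun hyI => hy (hyI s.2)⟩
  choose n hn using fun s : I => s.2
  let F := tilde (quotM P)
  let N : ∀ s : I, Γ(F, D s) := fun s => QC70.res F le_top (sec (quotM P) (n s))
  have hsurj : ∀ s : I, ∃ τ : Γ(F, D s), (s : R) • τ = N s := fun s => by
    have := Scheme.Modules.isUnit_algebraMap_end_of_le_basicOpen (M := F) (U := D s) (s : R) le_rfl
    rw [Module.End.isUnit_iff] at this
    exact this.2 _
  choose τ hτ using hsurj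
  have hrel : ∀ s t : I, (t : R) • n s = (s : R) • n t := fun s t => by
    apply IsFractionRing.injective (R ⧸ P.asIdeal) (KK P)
    rw [algebraMap_smul_quot, algebraMap_smul_quot, hn s, hn t]
    ring
  obtain ⟨σ₀, hσ₀⟩ := exists_glue F (U := W) D hDW (fun y hy => by
    obtain ⟨s, hs, hsy⟩ := SetLike.not_le_iff_exists.mp (show ¬ I ≤ y.asIdeal from hy.2)
    exact Opens.mem_iSup.mpr ⟨⟨s, hs⟩, hsy⟩) τ fun s t => by
      let D' := D s ⊓ D t
      have hs : D' ≤ D s := inf_le_left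
      have ht : D' ≤ D t := inf_le_right
      refine Scheme.Modules.isSMulRegular_of_le_basicOpen (M := F) (f := (s : R)) hs
        (Scheme.Modules.isSMulRegular_of_le_basicOpen (M := F) (f := (t : R)) ht ?_)
      show (t : R) • (s : R) • F.presheaf.map (homOfLE hs).op (τ s) =
        (t : R) • (s : R) • F.presheaf.map (homOfLE ht).op (τ t)
      have key : ∀ (u : I) (hu : D' ≤ D u) (c : R),
          c • (u : R) • F.presheaf.map (homOfLE hu).op (τ u) = QC70.res F le_top (sec (quotM P) (c • n u)) := by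
        intro u hu c
        have h1 : (u : R) • F.presheaf.map (homOfLE hu).op (τ u) = QC70.res F le_top (sec (quotM P) (n u)) := by
          refine (Scheme.Modules.map_smul_Spec _ _ _).symm.trans ?_
          rw [hτ]
          exact res_res _ _ _
        rw [h1]
        refine (Scheme.Modules.map_smul_Spec _ _ _).symm.trans ?_
        exact congrArg _ ((tilde.toOpen (quotM P) ⊤).hom.map_smul c (n u)).symm
      rw [key s hs, smul_comm (t : R) (s : R), key t ht, hrel]
  let σ : ΦObj Z (quotM P) := γ T ⊤ σ₀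
  refine ⟨σ, xval_unique P hP hdP (s := d) (n := n ⟨d, hdI⟩) ?_ (hn ⟨d, hdI⟩)⟩
  have hPD : (P : Spec R) ∈ D ⟨d, hdI⟩ := hdP
  have e : QC70.res ((ZClos.H0 Z).obj F) (inf_le_left : W ≤ ⊤) σ = (ZClos.rhoApp Z F).app W σ₀ := by
    rw [show σ = γ T ⊤ σ₀ from rfl, res_γ, rho_app_eq T]
  have hg : germM ((ZClos.H0 Z).obj F) ⊤ (P : Spec R) trivial σ =
      stalkMapM (ZClos.rhoApp Z F) P (germM F (D ⟨d, hdI⟩) P hPD (τ ⟨d, hdI⟩)) := by
    rw [← germM_res (inf_le_left : W ≤ ⊤) (hDW _ hPD), e, ← hσ₀ ⟨d, hdI⟩, germM_res, stalkMapM_germ]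
  have hu : (Spec R).presheaf.germ ⊤ P trivial (ι' d) • germM F (D ⟨d, hdI⟩) P hPD (τ ⟨d, hdI⟩) =
      germM F ⊤ P trivial (sec (quotM P) (n ⟨d, hdI⟩)) := by
    have h1 : resO (Spec R) (le_top : D ⟨d, hdI⟩ ≤ ⊤) (ι' d) • τ ⟨d, hdI⟩ = N ⟨d, hdI⟩ := hτ ⟨d, hdI⟩
    have h2 := congrArg (germM F _ P hPD) h1
    rw [germM_smul, germ_resO, germM_res] at h2
    exact h2
  rw [Rel, germM_smul, hg, ← hu]
  exact ((stalkLinear (ZClos.rhoApp Z F) P).map_smul _ _).symm

theorem heightOneHullFinite_of_isNoetherian (hZ : StableUnderSpecialization Z) (hP : (P : Spec R) ∉ Z)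
    (hbig : ∀ y : Spec R, P.asIdeal ≤ y.asIdeal → (2 : ℕ∞) ≤ relHeight P y → y ∈ Z)
    (h : IsNoetherian R ((Φ Z).obj (quotM P))) : EGA4.HeightOneHullFinite (R ⧸ P.asIdeal) := by
  rw [Hull.heightOneHullFinite_iff]
  let S : Submodule R (KK P) := (Subalgebra.toSubmodule (Hull.hull (R ⧸ P.asIdeal))).restrictScalars R
  have hle : S ≤ LinearMap.range (ψ P hP) := fun x hx => hull_subset_range P hZ hP hbig hx
  have h' : IsNoetherian R (ΦObj Z (quotM P)) := h
  have : IsNoetherian R (LinearMap.range (ψ P hP)) :=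
    isNoetherian_of_surjective (f := (ψ P hP).rangeRestrict) (LinearMap.range_eq_top.mpr (ψ P hP).surjective_rangeRestrict)
  have : IsNoetherian R S := isNoetherian_of_le hle
  have : Module.Finite R (Hull.hull (R ⧸ P.asIdeal)) :=
    (Module.IsNoetherian.finite R S : Module.Finite R S)
  exact Module.Finite.of_restrictScalars_finite R _ _

end Groth.Agent.ZClos93.Affine
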