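import Groth.Agent.ZClos93.FiltColim
import Groth.Prelude.Def_ZClos

/-! Sections of the Z-closure over quasi-compact opens. -/

set_option autoImplicit false
set_option backward.isDefEq.respectTransparency false

noncomputable section

universe u

open CategoryTheory Limits AlgebraicGeometry TopologicalSpace Opposite
open Groth.Agent.QC70

namespace Groth.Agent.ZClos93

variable {X : Scheme.{u}} {Z : Set X} {F G : X.Modules}

theorem im_eq (T : ZClos.Cl Z) (V : X.Opens) : T.U.ι ''ᵁ T.U.ι ⁻¹ᵁ V = V ⊓ T.U := by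
  rw [ZClos.ι_image_preimage, inf_comm]

/-- A section of `F` outside `T` as a section of the `T`-th stage. -/
def ofSec (T : ZClos.Cl Z) (V : X.Opens) (s : Γ(F, V ⊓ T.U)) : Γ(((ZClos.diagram Z).obj F).obj T, V) :=
  QC70.res F (im_eq T V).le s

/-- The injection of a stage into the Z-closure. -/
abbrev inj (Z : Set X) (F : X.Modules) (T : ZClos.Cl Z) :
    ((ZClos.diagram Z).obj F).obj T ⟶ (ZClos.H0 Z).obj F :=
  colimit.ι ((ZClos.diagram Z).obj F) T

theorem inj_w {T T' : ZClos.Cl Z} (f : T ⟶ T') :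
    ((ZClos.diagram Z).obj F).map f ≫ inj Z F T' = inj Z F T :=
  colimit.w _ f

/-- The section of the Z-closure given by a section of `F` outside `T`. -/
def γ (T : ZClos.Cl Z) (V : X.Opens) (s : Γ(F, V ⊓ T.U)) : Γ((ZClos.H0 Z).obj F, V) :=
  (inj Z F T).app V (ofSec T V s)

theorem γ_add (T : ZClos.Cl Z) (V : X.Opens) (s t : Γ(F, V ⊓ T.U)) :
    γ T V (s + t) = γ T V s + γ T V t :=
  (congrArg (fun x => (inj Z F T).app V x)
    (map_add (F.presheaf.map (homOfLE (im_eq T V).le).op).hom s t)).trans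
    (map_add ((inj Z F T).app V).hom _ _)

theorem γ_sub (T : ZClos.Cl Z) (V : X.Opens) (s t : Γ(F, V ⊓ T.U)) :
    γ T V (s - t) = γ T V s - γ T V t :=
  (congrArg (fun x => (inj Z F T).app V x)
    (map_sub (F.presheaf.map (homOfLE (im_eq T V).le).op).hom s t)).trans
    (map_sub ((inj Z F T).app V).hom _ _)

theorem γ_zero (T : ZClos.Cl Z) (V : X.Opens) : γ T V (0 : Γ(F, V ⊓ T.U)) = 0 :=
  (congrArg (fun x => (inj Z F T).app V x)
    (map_zero (F.presheaf.map (homOfLE (im_eq T V).le).op).hom)).trans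
    (map_zero ((inj Z F T).app V).hom)

theorem le_U {T T' : ZClos.Cl Z} (h : T ≤ T') (V : X.Opens) : V ⊓ T'.U ≤ V ⊓ T.U :=
  inf_le_inf_left V (ZClos.Cl.U_anti h)

theorem map_ofSec {T T' : ZClos.Cl Z} (f : T ⟶ T') (V : X.Opens) (s : Γ(F, V ⊓ T.U)) :
    (((ZClos.diagram Z).obj F).map f).app V (ofSec T V s) = ofSec T' V (QC70.res F (le_U f.le V) s) := by
  show (ZClos.resPushMapApp (ZClos.Cl.U_anti f.le) F).app V (ofSec T V s) = _
  rw [ZClos.resPushMapApp_app]
  show QC70.res F _ (QC70.res F _ s) = QC70.res F _ (QC70.res F _ s)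
  rw [res_res, res_res]

theorem γ_res_stage {T T' : ZClos.Cl Z} (h : T ≤ T') (V : X.Opens) (s : Γ(F, V ⊓ T.U)) :
    γ T' V (QC70.res F (le_U h V) s) = γ T V s := by
  rw [γ, γ, ← map_ofSec (homOfLE h), ← app_comp_apply, inj_w]

theorem res_res_congr {A B B' C : X.Opens} (h₁ : B ≤ A) (h₂ : C ≤ B) (h₁' : B' ≤ A) (h₂' : C ≤ B') (s : Γ(F, A)) :
    QC70.res F h₂ (QC70.res F h₁ s) = QC70.res F h₂' (QC70.res F h₁' s) := by
  rw [res_res, res_res]

theorem res_ofSec (T : ZClos.Cl Z) {V W : X.Opens} (h : W ≤ V) (s : Γ(F, V ⊓ T.U)) :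
    QC70.res (((ZClos.diagram Z).obj F).obj T) h (ofSec T V s) =
      ofSec T W (QC70.res F (inf_le_inf_right _ h) s) := by
  have e : (((ZClos.diagram Z).obj F).obj T).presheaf.map (homOfLE h).op =
      F.presheaf.map (homOfLE (show T.U.ι ''ᵁ T.U.ι ⁻¹ᵁ W ≤ T.U.ι ''ᵁ T.U.ι ⁻¹ᵁ V from
        T.U.ι.image_mono fun x hx => h hx)).op := rfl
  exact (ConcreteCategory.congr_hom e (ofSec T V s)).trans (res_res_congr _ _ _ _ s)

theorem res_γ (T : ZClos.Cl Z) {V W : X.Opens} (h : W ≤ V) (s : Γ(F, V ⊓ T.U)) :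
    QC70.res ((ZClos.H0 Z).obj F) h (γ T V s) = γ T W (QC70.res F (inf_le_inf_right _ h) s) := by
  rw [γ, γ, ← res_ofSec T h s, app_res]

theorem rho_app_eq (T : ZClos.Cl Z) (V : X.Opens) (s : Γ(F, V)) :
    (ZClos.rhoApp Z F).app V s = γ T V (QC70.res F inf_le_left s) := by
  rw [ZClos.rhoApp_eq Z F T, app_comp_apply, γ]
  congr 1
  show ((ZClos.resPushUnit T.U).app F).app V s = _
  rw [ZClos.resPushUnit_app_app]
  show QC70.res F _ s = QC70.res F _ (QC70.res F _ s)
  rw [res_res]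

theorem map_γ (φ : F ⟶ G) (T : ZClos.Cl Z) (V : X.Opens) (s : Γ(F, V ⊓ T.U)) :
    ((ZClos.H0 Z).map φ).app V (γ T V s) = γ T V (φ.app _ s) := by
  have e : inj Z F T ≫ (ZClos.H0 Z).map φ = ((ZClos.diagram Z).map φ).app T ≫ inj Z G T := ι_colimMap _ _
  rw [γ, ← app_comp_apply, e, app_comp_apply, γ]
  refine congrArg _ ?_
  show (φ.app _) (QC70.res F _ s) = QC70.res G _ (φ.app _ s)
  rw [app_res]

variable [IsLocallyNoetherian X]

omit [IsLocallyNoetherian X] in
theorem exists_stage_of_γ_eq_zero {V : X.Opens} (hV : IsCompact (V : Set X)) {T : ZClos.Cl Z}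
    {s : Γ(F, V ⊓ T.U)} (h : γ T V s = 0) :
    ∃ (T' : ZClos.Cl Z) (hT : T ≤ T'), QC70.res F (le_U hT V) s = 0 := by
  obtain ⟨T', f, hf⟩ := exists_stage_zero (colimit.isColimit ((ZClos.diagram Z).obj F)) hV (ofSec T V s) h
  refine ⟨T', f.le, ?_⟩
  rw [map_ofSec] at hf
  have h2 := congrArg (QC70.res F (im_eq T' V).ge) hf
  change QC70.res F _ (QC70.res F _ (QC70.res F _ s)) = QC70.res F _ (0 : Γ(F, _)) at h2
  rwa [res_res, res_res, res_zero] at h2

theorem exists_γ {V : X.Opens} (hV : IsCompact (V : Set X)) (σ : Γ((ZClos.H0 Z).obj F, V)) :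
    ∃ (T : ZClos.Cl Z) (s : Γ(F, V ⊓ T.U)), γ T V s = σ := by
  obtain ⟨T, s, hs⟩ := exists_stage_section (colimit.isColimit ((ZClos.diagram Z).obj F)) hV σ
  let s' : Γ(F, T.U.ι ''ᵁ T.U.ι ⁻¹ᵁ V) := s
  refine ⟨T, QC70.res F (im_eq T V).ge s', ?_⟩
  rw [← hs]
  show (inj Z F T).app V _ = (inj Z F T).app V s
  congr 1
  show QC70.res F _ (QC70.res F _ s') = s'
  rw [res_res]
  exact congr($(F.presheaf.map_id _) s)

omit [IsLocallyNoetherian X] in
theorem exists_compact_nhd {W : X.Opens} {p : X} (hp : p ∈ W) :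
    ∃ V : X.Opens, IsCompact (V : Set X) ∧ p ∈ V ∧ V ≤ W := by
  obtain ⟨_, ⟨V, hV, rfl⟩, hpV, hVW⟩ := X.isBasis_affineOpens.exists_subset_of_mem_open hp W.2
  exact ⟨V, (show IsAffineOpen V from hV).isCompact, hpV, hVW⟩

omit [IsLocallyNoetherian X] in
/-- Sections agree if they agree on quasi-compact opens. -/
theorem section_ext_compact (M : X.Modules) {W : X.Opens} (s t : Γ(M, W))
    (h : ∀ (V : X.Opens) (hV : V ≤ W), IsCompact (V : Set X) → QC70.res M hV s = QC70.res M hV t) : s = t :=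
  section_ext M s t fun p hp => by
    obtain ⟨V, hV, hpV, hVW⟩ := exists_compact_nhd hp
    exact ⟨V, hVW, hpV, h V hVW hV⟩

omit [IsLocallyNoetherian X] in
/-- A map of modules injective on quasi-compact opens is a monomorphism. -/
theorem mono_of_compact (φ : F ⟶ G) (h : ∀ V : X.Opens, IsCompact (V : Set X) → Function.Injective (φ.app V)) :
    Mono φ := by
  refine mono_of_app_injective φ fun W s t e => section_ext_compact F s t fun V hV hc => h V hc ?_
  rw [app_res, app_res, e]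

omit [IsLocallyNoetherian X] in
/-- A map of modules bijective on quasi-compact opens is an isomorphism. -/
theorem isIso_of_compact (φ : F ⟶ G) (h : ∀ V : X.Opens, IsCompact (V : Set X) → Function.Bijective (φ.app V)) :
    IsIso φ := by
  have := mono_of_compact φ fun V hV => (h V hV).1
  have : Epi φ := by
    refine epi_of_locally_surjective φ fun W s p hp => ?_
    obtain ⟨V, hV, hpV, hVW⟩ := exists_compact_nhd hp
    obtain ⟨t, ht⟩ := (h V hV).2 (QC70.res G hVW s)
    exact ⟨V, hVW, t, hpV, ht⟩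
  exact isIso_of_mono_of_epi φ

omit [IsLocallyNoetherian X] in
theorem app_bijective_of_isIso (φ : F ⟶ G) [IsIso φ] (V : X.Opens) : Function.Bijective (φ.app V) :=
  have : IsIso (φ.app V) := Scheme.Modules.Hom.isIso_iff_isIso_app.mp ‹IsIso φ› V
  ConcreteCategory.bijective_of_isIso _

/-- Restriction away from every member of the index is injective on quasi-compact opens. -/
def ResInj (Z : Set X) (F : X.Modules) : Prop :=
  ∀ (T : ZClos.Cl Z) (V : X.Opens), IsCompact (V : Set X) →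
    Function.Injective (QC70.res F (inf_le_left : V ⊓ T.U ≤ V))

/-- Restriction away from every member of the index is bijective on quasi-compact opens. -/
def ResBij (Z : Set X) (F : X.Modules) : Prop :=
  ∀ (T : ZClos.Cl Z) (V : X.Opens), IsCompact (V : Set X) →
    Function.Bijective (QC70.res F (inf_le_left : V ⊓ T.U ≤ V))

omit [IsLocallyNoetherian X] in
theorem isZPure_iff_resInj : ZClos.IsZPure Z F ↔ ResInj Z F := by
  constructor
  · intro (h : Mono (ZClos.rhoApp Z F)) T V _ a b e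
    refine app_injective_of_mono (ZClos.rhoApp Z F) V (show (ZClos.rhoApp Z F).app V a = (ZClos.rhoApp Z F).app V b from ?_)
    rw [rho_app_eq T, rho_app_eq T, e]
  · intro h
    refine mono_of_compact _ fun V hV a b e => ?_
    rw [rho_app_eq ⊥, rho_app_eq ⊥, ← sub_eq_zero, ← γ_sub] at e
    obtain ⟨T, hT, h0⟩ := exists_stage_of_γ_eq_zero hV e
    apply h T V hV
    rwa [← res_sub, res_res, res_sub, sub_eq_zero] at h0

theorem isZClosed_iff_resBij : ZClos.IsZClosed Z F ↔ ResBij Z F := by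
  constructor
  · intro (h : IsIso (ZClos.rhoApp Z F))
    have hinj : ResInj Z F := isZPure_iff_resInj.mp (inferInstance : Mono (ZClos.rhoApp Z F))
    intro T V hV
    refine ⟨hinj T V hV, fun t => ?_⟩
    obtain ⟨s, hs⟩ := (app_bijective_of_isIso (ZClos.rhoApp Z F) V).2 (γ T V t)
    rw [rho_app_eq T, ← sub_eq_zero, ← γ_sub] at hs
    obtain ⟨T', hT, h0⟩ := exists_stage_of_γ_eq_zero hV hs
    refine ⟨s, section_ext_compact F _ _ fun W hW hc => hinj T' W hc ?_⟩
    rw [res_sub, sub_eq_zero] at h0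
    have h1 := congrArg (QC70.res F (show W ⊓ T'.U ≤ V ⊓ T'.U from inf_le_inf_right _ (hW.trans inf_le_left))) h0
    simp only [res_res] at h1 ⊢
    exact h1
  · intro h
    refine isIso_of_compact _ fun V hV => ⟨?_, fun σ => ?_⟩
    · have : Mono (ZClos.rhoApp Z F) := isZPure_iff_resInj.mpr fun T W hW => (h T W hW).1
      exact app_injective_of_mono (ZClos.rhoApp Z F) V
    · obtain ⟨T, s, rfl⟩ := exists_γ hV σ
      obtain ⟨t, ht⟩ := (h T V hV).2 s
      exact ⟨t, by rw [rho_app_eq T, ht]⟩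

end Groth.Agent.ZClos93
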